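import Cfsg.Agent.Lib.HallJanko.CentralizerJ2
import Cfsg.Agent.Lib.Balance.CharP
import Cfsg.Agent.S0824

/-!
# An involution of `J₂` of large extraspecial type

`large_extraspecial`: `F*` of the centraliser is extraspecial of order 32 with quotient `Ω₄⁻(2)`, and
the involution is not weakly closed in it.
-/

set_option autoImplicit false

namespace Cfsg.Agent.LeechIcosian

open Cfsg Cfsg.Spor HJ

/-- The word moving line 0 to an orthogonal line. -/
def wkWord : List ℕ := [3, 1, 3]

/-- The word with non-trivial image in the symmetric group of degree five. -/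
def fvWord : List ℕ := [3, 2, 0, 3, 2, 3, 2, 0, 3, 2]

theorem wk_check : decide (awN wkWord 0 ≠ 0) && decide (awN (wkWord ++ [0] ++ wkWord.reverse) 0 = 0) &&
    decide (basePair (wkWord ++ [0] ++ wkWord.reverse) = basePair (qW 3)) = true := by decide +kernel

theorem fv_check : decide (awN fvWord 0 = 0) && decide (blkN (awN fvWord (blkRep.getD 0 0)) = 1) &&
    ((List.range 32).all fun m => (List.range 32).any fun m' =>
      decide (basePair (fvWord ++ qW m ++ qW m') ≠ basePair (qW m' ++ (fvWord ++ qW m)))) = true := by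
  decide +kernel

/-- The involution. -/
noncomputable def zJ : J2 := isoP.symm ⟨HJ.sigma 0, sigma_mem 0⟩

/-- Its centraliser as the stabiliser of line 0. -/
noncomputable def cenIso : Subgroup.centralizer ({zJ} : Set J2) ≃* P1 :=
  (centralizerCongr isoP (isoP.apply_symm_apply _)).trans centEquiv

theorem cenIso_val (g : Subgroup.centralizer ({zJ} : Set J2)) :
    ((cenIso g : P1) : Equiv.Perm (Fin 315)) = ((isoP g.1 : P) : Equiv.Perm (Fin 315)) := rfl

/-- Its action on five blocks. -/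
noncomputable def phi5 : Subgroup.centralizer ({zJ} : Set J2) →* alternatingGroup (Fin 5) :=
  (five.comp cenIso.toMonoidHom).codRestrict _ fun g => five_range ▸ ⟨cenIso g, rfl⟩

theorem phi5_surjective : Function.Surjective phi5 := by
  rintro ⟨π, hπ⟩
  rw [← five_range] at hπ
  obtain ⟨y, rfl⟩ := hπ
  exact ⟨cenIso.symm y, Subtype.ext (congrArg five (cenIso.apply_symm_apply y))⟩

theorem phi5_ker : phi5.ker = Q32.comap cenIso.toMonoidHom := by
  ext g
  rw [MonoidHom.mem_ker, Subgroup.mem_comap, Q32, MonoidHom.mem_ker]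
  exact Subtype.ext_iff

/-- The kernel is the extraspecial group. -/
noncomputable def kerIso : Q32 ≃* phi5.ker :=
  ((cenIso.subgroupMap phi5.ker).trans (MulEquiv.subgroupCongr (by
    rw [phi5_ker]; exact Subgroup.map_comap_eq_self_of_surjective cenIso.surjective _))).symm

theorem card_phi5_ker : Nat.card phi5.ker = 32 :=
  (Nat.card_congr kerIso.toEquiv).symm.trans card_five_eq.2

theorem zJ_ne_one : zJ ≠ 1 := by
  intro h
  have e : (⟨HJ.sigma 0, sigma_mem 0⟩ : P) = 1 := isoP.symm.injective (by rw [map_one]; exact h)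
  refine z0_ne_one (Subtype.ext ?_)
  rw [z0_val, ← sigma_zero]
  exact congrArg Subtype.val e

theorem orderOf_zJ : orderOf zJ = 2 := by
  haveI := Fact.mk Nat.prime_two
  refine orderOf_eq_prime ?_ zJ_ne_one
  rw [zJ, ← map_pow, show (⟨HJ.sigma 0, sigma_mem 0⟩ : P) ^ 2 = 1 from ?_, map_one]
  refine Subtype.ext ?_
  rw [Subgroup.coe_pow, pow_two]
  show HJ.sigma 0 * HJ.sigma 0 = 1
  rw [sigma_zero, gperm_sq]

theorem normal_image {N : Subgroup (Subgroup.centralizer ({zJ} : Set J2))} (hN : N.Normal) :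
    N.map phi5 = ⊥ ∨ N.map phi5 = ⊤ :=
  haveI := alternatingGroup.isSimpleGroup_five
  (hN.map phi5 phi5_surjective).eq_bot_or_eq_top

theorem centralizer_ker_le :
    Subgroup.centralizer (phi5.ker : Set (Subgroup.centralizer ({zJ} : Set J2))) ≤ phi5.ker := by
  rcases normal_image (N := Subgroup.centralizer (phi5.ker : Set _)) inferInstance with h | h
  · exact (Subgroup.map_eq_bot_iff _).1 h
  exfalso
  have hc := fv_check
  simp only [Bool.and_eq_true, decide_eq_true_eq, List.all_eq_true, List.any_eq_true] at hc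
  obtain ⟨⟨h0, -⟩, hall⟩ := hc
  have h4 : ∀ k ∈ fvWord, k < 4 := by decide
  set f := toP1 fvWord h4 h0
  obtain ⟨c, hc1, hc2⟩ : phi5 (cenIso.symm f) ∈
      (Subgroup.centralizer (phi5.ker : Set (Subgroup.centralizer ({zJ} : Set J2)))).map phi5 := by
    rw [h]; trivial
  have hd : f⁻¹ * cenIso c ∈ Q32 := by
    have e : five (cenIso c) = five (cenIso (cenIso.symm f)) := congrArg Subtype.val hc2
    rw [cenIso.apply_symm_apply] at e
    rw [Q32, MonoidHom.mem_ker, map_mul, map_inv, e, inv_mul_cancel]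
  obtain ⟨m, hm⟩ := mem_Q32 hd
  obtain ⟨m', hm', hne⟩ := hall m (List.mem_range.2 m.2)
  rw [List.mem_range] at hm'
  have hker : cenIso.symm (qel ⟨m', hm'⟩) ∈ phi5.ker := by
    rw [phi5_ker, Subgroup.mem_comap, MulEquiv.coe_toMonoidHom, cenIso.apply_symm_apply]
    exact qel_mem _
  have hcomm := congrArg cenIso (Subgroup.mem_centralizer_iff.1 hc1 _ hker)
  rw [map_mul, map_mul, cenIso.apply_symm_apply, show cenIso c = f * qel m by rw [hm, mul_inv_cancel_left]]
    at hcomm
  obtain ⟨a4, -, -⟩ := q_spec m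
  obtain ⟨b4, -, -⟩ := q_spec ⟨m', hm'⟩
  have e : wP (toWord (fvWord ++ qW m ++ qW m')) = wP (toWord (qW m' ++ (fvWord ++ qW m))) := by
    simp only [wP_toWord_append]
    exact congrArg Subtype.val hcomm.symm
  have hl : ∀ k ∈ fvWord ++ qW m ++ qW m', k < 4 := by
    intro k hk
    simp only [List.mem_append] at hk
    rcases hk with (hk | hk) | hk
    exacts [h4 k hk, a4 k hk, b4 k hk]
  have hr : ∀ k ∈ qW m' ++ (fvWord ++ qW m), k < 4 := by
    intro k hk
    simp only [List.mem_append] at hk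
    rcases hk with hk | hk | hk
    exacts [b4 k hk, h4 k hk, a4 k hk]
  refine hne (Prod.ext ?_ ?_) <;> simp only [basePair]
  · exact (wP_toWord _ hl 83).symm.trans
      ((congrArg (fun p : Equiv.Perm (Fin 315) => (p 83 : ℕ)) e).trans (wP_toWord _ hr 83))
  · exact (wP_toWord _ hl 93).symm.trans
      ((congrArg (fun p : Equiv.Perm (Fin 315) => (p 93 : ℕ)) e).trans (wP_toWord _ hr 93))

theorem ker_eq_pCore : pCore 2 (Subgroup.centralizer ({zJ} : Set J2)) = phi5.ker := by
  haveI := Fact.mk Nat.prime_two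
  have hk : IsPGroup 2 phi5.ker := IsPGroup.of_card (n := 5) card_phi5_ker
  haveI : Finite (Subgroup.centralizer ({zJ} : Set J2)) := Finite.of_equiv _ cenIso.symm.toEquiv
  refine le_antisymm ?_ (le_sSup ⟨inferInstance, hk⟩)
  have hp : IsPGroup 2 (pCore 2 (Subgroup.centralizer ({zJ} : Set J2))) := Components.isPGroup_pCore' 2
  rcases normal_image (Components.pCore_normal' 2) with h | h
  · exact (Subgroup.map_eq_bot_iff _).1 h
  · exfalso
    have h2 := hp.map phi5
    rw [h] at h2
    obtain ⟨n, hn⟩ := IsPGroup.iff_card.1 h2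
    rw [Subgroup.card_top, nat_card_alternatingGroup, Nat.card_fin] at hn
    have h3 : (3 : ℕ) ∣ 2 ^ n := by rw [← hn]; decide
    exact absurd ((Nat.prime_dvd_prime_iff_eq Nat.prime_three Nat.prime_two).1
      (Nat.prime_three.dvd_of_dvd_pow h3)) (by norm_num)

theorem omegaFourMinus : Nonempty (alternatingGroup (Fin 5) ≃*
    Cfsg.Omega (ZMod 2) (Cfsg.quadFormMinus 1 (ZMod 2) 1 1)) := by
  obtain ⟨e⟩ := S0824.core
  have h : (commutator (isometryGroup (ZMod 2) S0824.Q)).map
      e.toMonoidHom = alternatingGroup (Fin 5) := by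
    rw [← alternatingGroup.commutator_perm_eq (α := Fin 5) (by simp), commutator_def, commutator_def,
      Subgroup.map_commutator, Subgroup.map_top_of_surjective e.toMonoidHom e.surjective]
  have e' : commutator (isometryGroup (ZMod 2) S0824.Q) ≃* alternatingGroup (Fin 5) :=
    (e.subgroupMap _).trans (MulEquiv.subgroupCongr h)
  exact ⟨e'.symm⟩

theorem large_extraspecial : ∃ z : J2, orderOf z = 2 ∧
    ∃ (Q : Subgroup (Subgroup.centralizer ({z} : Set J2))) (_ : Q.Normal),
      generalizedFittingSubgroup (Subgroup.centralizer ({z} : Set J2)) = Q ∧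
      IsExtraspecial 2 Q ∧ Nat.card Q = 2 ^ 5 ∧
      Nonempty ((Subgroup.centralizer ({z} : Set J2)) ⧸ Q ≃*
        Cfsg.Omega (ZMod 2) (Cfsg.quadFormMinus 1 (ZMod 2) 1 1)) ∧
      ∃ g : J2, (∃ hq : g * z * g⁻¹ ∈ Subgroup.centralizer ({z} : Set J2),
        (⟨g * z * g⁻¹, hq⟩ : Subgroup.centralizer ({z} : Set J2)) ∈ Q) ∧ g * z * g⁻¹ ≠ z := by
  haveI := Fact.mk Nat.prime_two
  haveI : Finite (Subgroup.centralizer ({zJ} : Set J2)) := Finite.of_equiv _ cenIso.symm.toEquiv
  obtain ⟨eΩ⟩ := omegaFourMinus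
  refine ⟨zJ, orderOf_zJ, phi5.ker, inferInstance, ?_, TI.isExtraspecial_congr kerIso Q32_extraspecial,
    card_phi5_ker.trans (by norm_num),
    ⟨(QuotientGroup.quotientKerEquivOfSurjective phi5 phi5_surjective).trans eΩ⟩, ?_⟩
  · rw [← ker_eq_pCore]
    exact Balance.generalizedFitting_eq_pCore (by rw [ker_eq_pCore]; exact centralizer_ker_le)
  have hc := wk_check
  simp only [Bool.and_eq_true, decide_eq_true_eq] at hc
  obtain ⟨⟨hne, hfix⟩, hbase⟩ := hc
  have h4 : ∀ k ∈ wkWord, k < 4 := by decide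
  have hl : ∀ k ∈ wkWord ++ [0] ++ wkWord.reverse, k < 4 := by decide
  set gP : P := ⟨wP (toWord wkWord), wP_mem _⟩
  have hconj : ((gP * ⟨HJ.sigma 0, sigma_mem 0⟩ * gP⁻¹ : P) : Equiv.Perm (Fin 315)) = (qel 3 : P1) := by
    have e1 : wP (toWord [0]) = gperm 0 := mul_one _
    have e2 : wP (toWord (wkWord ++ [0] ++ wkWord.reverse)) = wP (toWord (qW 3)) :=
      word_P1_ext hl (q_spec 3).1 hfix (q_spec 3).2.1 hbase
    rw [Subgroup.coe_mul, Subgroup.coe_mul, Subgroup.coe_inv]
    show wP (toWord wkWord) * HJ.sigma 0 * (wP (toWord wkWord))⁻¹ = _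
    rw [sigma_zero]
    rw [wP_toWord_append, wP_toWord_append, wP_toWord_reverse, e1] at e2
    exact e2
  have hmap : isoP (isoP.symm gP * zJ * (isoP.symm gP)⁻¹) = gP * ⟨HJ.sigma 0, sigma_mem 0⟩ * gP⁻¹ := by
    simp [zJ]
  refine ⟨isoP.symm gP, ?_, ?_⟩
  · set c := cenIso.symm (qel 3)
    have hc' : (isoP c.1 : Equiv.Perm (Fin 315)) = (qel 3 : P1) := by
      rw [← cenIso_val, cenIso.apply_symm_apply]
    have e : isoP.symm gP * zJ * (isoP.symm gP)⁻¹ = c.1 :=
      isoP.injective (Subtype.ext (by rw [hmap, hconj, hc']))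
    refine ⟨e ▸ c.2, ?_⟩
    rw [phi5_ker, Subgroup.mem_comap, MulEquiv.coe_toMonoidHom]
    have e' : (⟨_, e ▸ c.2⟩ : Subgroup.centralizer ({zJ} : Set J2)) = c := Subtype.ext e
    rw [e', cenIso.apply_symm_apply]
    exact qel_mem 3
  · intro h
    have h1 := congrArg (fun p : P => (p : Equiv.Perm (Fin 315))) ((congrArg isoP h).symm.trans hmap)
    simp only [zJ, MulEquiv.apply_symm_apply, Subgroup.coe_mul, Subgroup.coe_inv] at h1
    rw [conj_sigma (wP_mem _)] at h1
    have h2 := congrArg Fin.val (sigma_injective h1)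
    rw [wP_toWord _ h4] at h2
    exact hne h2.symm

end Cfsg.Agent.LeechIcosian
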