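import Cfsg.Agent.Lib.LeechIcosian.Cons

/-! Kernel checks of the candidate counts. -/

set_option autoImplicit false

namespace Cfsg.Agent.LeechIcosian

theorem cons_check : ∀ j : Fin 5, consData (j + 1) = consOf (j + 1) := by decide +kernel

theorem count_one : countCands (consData 1) = 5 := by decide +kernel

theorem count_two : countCands (consData 2) = 16 := by decide +kernel

theorem count_three : countCands (consData 3) = 1 := by decide +kernel

theorem count_four : countCands (consData 4) = 2 := by decide +kernel

theorem count_five : countCands (consData 5) = 1 := by decide +kernel

end Cfsg.Agent.LeechIcosian
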