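import Cfsg.Agent.Lib.LeechIcosian.Scalar
import Cfsg.Agent.Lib.LeechIcosian.CountChecks
import Cfsg.Agent.Lib.HallJanko.Order

/-!
# The centraliser of the scalar of order five

An orbit-stabiliser chain along six minimal vectors bounds the centraliser by `37800·5·16·1·2·1`; so
it is the scalars times the reflection group (`exists_decomp`).
-/

set_option autoImplicit false

namespace Cfsg.Agent.LeechIcosian

open Quaternion Cfsg Cfsg.Spor HJ HJ.V8 MulAction

/-- The centraliser of the scalar. -/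
noncomputable def cenA : Subgroup Co0 :=
  Subgroup.centralizer (Subgroup.zpowers aElt : Set Co0)

theorem mem_cenA {g : Co0} : g ∈ cenA ↔ g * aElt = aElt * g := by
  rw [cenA, Subgroup.zpowers_eq_closure, Subgroup.centralizer_closure,
    Subgroup.mem_centralizer_singleton_iff]

theorem powV_spec {b : V3} (hb : InV b ∧ Good (toV b)) :
    ∀ k, InV (powV k b) ∧ Good (toV (powV k b))
  | 0 => hb
  | k + 1 => by
    obtain ⟨h1, h2⟩ := powV_spec hb k
    refine ⟨inV_smulV wU_check.1 h1, ?_⟩
    rw [powV, toV_smulV wU_check.1 h1]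
    exact good_smul wH_mem normSq_wH h2

theorem baseV_spec (j : Fin 6) : InV (baseV j) ∧ Good (toV (baseV j)) := by
  have h := List.all_eq_true.1 baseIdx_check j (List.mem_range.2 j.2)
  simp only [Bool.and_eq_true, decide_eq_true_eq] at h
  have hu : unitsL.getD (baseIdx.getD j (0, 0)).1 HJ.V8.zero ∈ unitsL := by
    rw [List.getD_eq_getElem _ _ (unitsL_nodup.2.symm ▸ h.1)]
    exact List.getElem_mem _
  obtain ⟨hI, hn⟩ := mem_unitsL hu
  obtain ⟨hV, hG⟩ := rep_ok h.2
  refine ⟨inV_smulV hI hV, ?_⟩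
  rw [baseV, toV_smulV hI hV]
  exact good_smul (toH_mem hI) hn hG

/-- Base vector `j` times a power of the scalar. -/
noncomputable def bP (j : Fin 6) (k : ℕ) : icoLeech :=
  ⟨toV (powV k (baseV j)), (powV_spec (baseV_spec j) k).2.1⟩

/-- Base point `j`. -/
noncomputable def pB (j : Fin 6) : leechLattice := Phi (bP j 0)

theorem phi_bP_succ (j : Fin 6) (k : ℕ) : Phi (bP j (k + 1)) = aElt • Phi (bP j k) := by
  rw [aElt_phi]
  exact congrArg Phi (Subtype.ext (toV_smulV wU_check.1 (powV_spec (baseV_spec j) k).1))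

theorem fix_bP {g : Co0} (hg : g ∈ cenA) {j : Fin 6} (h : g • pB j = pB j) :
    ∀ k, g • Phi (bP j k) = Phi (bP j k)
  | 0 => h
  | k + 1 => by
    rw [phi_bP_succ, ← mul_smul, mem_cenA.1 hg, mul_smul, fix_bP hg h k]

theorem dot_T2 {a b : V3} (ha : InV a) (hb : InV b) (ha' : toV a ∈ icoLeech)
    (hb' : toV b ∈ icoLeech) :
    dotInt (Phi ⟨toV a, ha'⟩ : GolayPt → ℤ) (Phi ⟨toV b, hb'⟩ : GolayPt → ℤ) = T2 a b := by
  obtain ⟨A, B, h1, h2⟩ := phi_gram ⟨toV a, ha'⟩ ⟨toV b, hb'⟩
  rw [(qip_toV ha hb).1, (qip_toV hb ha).1, ← toH_add, ← coe_toR] at h1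
  have h3 := toH_injective h1
  rw [h2, T2, symV, h3]

theorem mulP_eq {u q : V8} (hu : inI u = true) (hq : inI q = true) :
    mulP u q = HJ.V8.smul 4 (mul u q) := by
  refine toH_injective ?_
  rw [toH_smul, (toH_mul hu hq).1, toH_mulP, show ((4 : ℤ) • ((4 : ℝ)⁻¹ • toH (mulP u q))) =
    (4 : ℝ) • ((4 : ℝ)⁻¹ • toH (mulP u q)) by rw [← Int.cast_smul_eq_zsmul ℝ]; norm_num,
    smul_smul]
  norm_num

theorem dot8_eq {u : V8} {r X : V3} (hu : inI u = true) (hr : InV r) (hX : InV X) :
    dot8 u (fVec r X) = 2 * T2 (smulV u r) X := by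
  obtain ⟨e1, hq⟩ := qip_toV hr hX
  have hur := inV_smulV hu hr
  have h1 : ipV (smulV u r) X = mul u (ipV r X) := toH_injective (by
    rw [← (qip_toV hur hX).1, toV_smulV hu hr, qip_smul_left, e1, (toH_mul hu hq).1])
  have h2 : ipV X (smulV u r) = conj (ipV (smulV u r) X) := toH_injective (by
    rw [← (qip_toV hX hur).1, toH_conj, ← (qip_toV hur hX).1, qip_star])
  have h4 := mulP_eq hu hq
  rw [T2, symV, h2, h1]
  simp only [dot8, fVec, force_eq]
  have ha := congrArg V8.a0 h4
  have hb := congrArg V8.b0 h4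
  simp only [mulP, HJ.V8.smul] at ha hb
  simp only [HJ.V8.add, conj]
  linear_combination ha + hb

theorem mem_sieve {r : V3} : ∀ (cs : List (V3 × ℤ)) (us : List V8) (u : V8), u ∈ us →
    (∀ c ∈ cs, dot8 u (fVec r c.1) = c.2) → u ∈ sieve r cs us
  | [], _, _, h, _ => by simpa [sieve] using h
  | (X, t) :: cs, [], u, h, _ => absurd h List.not_mem_nil
  | (X, t) :: cs, v :: us, u, h, hc => by
    rw [sieve, force_eq]
    refine mem_sieve cs _ u (List.mem_filter.2 ⟨h, ?_⟩) fun c hc' => hc c (List.mem_cons_of_mem _ hc')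
    exact decide_eq_true (hc (X, t) List.mem_cons_self)

/-- The chain of stabilisers along the base. -/
noncomputable def chn : ℕ → Subgroup Co0
  | 0 => cenA
  | j + 1 => chn j ⊓ stabilizer Co0 (pB (Fin.ofNat 6 j))

theorem chn_le : ∀ j, chn j ≤ cenA
  | 0 => le_rfl
  | j + 1 => inf_le_left.trans (chn_le j)

theorem chn_fix : ∀ {j : ℕ}, j ≤ 6 → ∀ {g : Co0}, g ∈ chn j → ∀ l : Fin 6, (l : ℕ) < j →
    g • pB l = pB l
  | 0, _, _, _, l, hl => absurd hl (Nat.not_lt_zero _)
  | j + 1, hj, g, hg, l, hl => by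
    rcases Nat.lt_succ_iff_lt_or_eq.1 hl with h | h
    · exact chn_fix (Nat.le_of_succ_le hj) hg.1 l h
    · have : Fin.ofNat 6 j = l := Fin.ext (by simp [← h, Nat.mod_eq_of_lt l.2])
      exact this ▸ hg.2

theorem image_spec {j : Fin 6} {g : Co0} (hg : g ∈ chn j) :
    ∃ (u : V8) (i : Fin 315), u ∈ unitsL ∧ ((Phi.symm (g • pB j) : icoLeech) : HV) = toV (smulV u (rep i)) ∧
      ∀ c ∈ consOf j, dot8 u (fVec (rep i) c.1) = c.2 := by
  have hC := chn_le _ hg
  have hgood : Good ((Phi.symm (g • pB j) : icoLeech) : HV) := by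
    obtain ⟨d1, d2⟩ := dots_good (x := bP j 0) (powV_spec (baseV_spec j) 0).2
    refine good_of_dots ?_ ?_
    · rw [Equiv.apply_symm_apply, Leech.co0_dot]
      exact d1
    · rw [← aElt_phi, Equiv.apply_symm_apply, ← mul_smul, ← mem_cenA.1 hC, mul_smul, Leech.co0_dot,
        pB, aElt_phi]
      exact d2
  obtain ⟨⟨⟨u, hu⟩, i⟩, e⟩ : ((Phi.symm (g • pB j) : icoLeech) : HV) ∈
      Set.range fun p : {u // u ∈ unitsL} × Fin 315 => toH p.1 • rv p.2 := minimal_eq ▸ hgood
  have hI := (mem_unitsL hu).1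
  have hr := (rep_ok i.2).1
  have hx : ((Phi.symm (g • pB j) : icoLeech) : HV) = toV (smulV u (rep i)) := by
    rw [toV_smulV hI hr, ← e]; rfl
  refine ⟨u, i, hu, hx, fun c hc => ?_⟩
  obtain ⟨a, ha, rfl⟩ := List.mem_map.1 hc
  rw [List.mem_range] at ha
  set l : Fin 6 := ⟨a / 4, by omega⟩ with hl
  have horb : orbV a = powV (a % 4) (baseV l) := rfl
  rw [dot8_eq hI hr (by rw [horb]; exact (powV_spec (baseV_spec l) _).1)]
  have hfix := fix_bP hC (chn_fix j.2.le hg l (show a / 4 < j by omega)) (a % 4)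
  have h1 := Leech.co0_dot g (pB j) (Phi (bP l (a % 4)))
  rw [hfix, ← Phi.apply_symm_apply (g • pB j)] at h1
  have hmem : toV (smulV u (rep i)) ∈ icoLeech := hx ▸ (Phi.symm (g • pB j)).2
  rw [show Phi.symm (g • pB j) = ⟨toV (smulV u (rep i)), hmem⟩ from Subtype.ext hx] at h1
  rw [pB, show bP j 0 = ⟨toV (baseV j), (baseV_spec j).2.1⟩ from rfl, bP,
    dot_T2 (inV_smulV hI hr) (powV_spec (baseV_spec l) _).1,
    dot_T2 (baseV_spec j).1 (powV_spec (baseV_spec l) _).1] at h1
  rw [horb, h1]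

theorem card_le_of_images (H : Subgroup Co0) (v : leechLattice) (S : Set HV) (hfin : S.Finite)
    (n : ℕ) (hn : S.ncard ≤ n) (h : ∀ g ∈ H, ((Phi.symm (g • v) : icoLeech) : HV) ∈ S) :
    Nat.card H ≤ n * Nat.card ↥(H ⊓ stabilizer Co0 v) := by
  have hst : Nat.card (stabilizer H v) = Nat.card ↥(H ⊓ stabilizer Co0 v) := by
    rw [show stabilizer H v = (stabilizer Co0 v).subgroupOf H from rfl]
    rw [← Subgroup.inf_subgroupOf_left]
    exact Nat.card_congr (Subgroup.subgroupOfEquivOfLe inf_le_left).toEquiv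
  rw [← (stabilizer H v).index_mul_card, hst, index_stabilizer]
  refine Nat.mul_le_mul_right _ (le_trans ?_ hn)
  refine Set.ncard_le_ncard_of_injOn (fun w => ((Phi.symm w : icoLeech) : HV)) ?_ ?_ hfin
  · rintro w ⟨g, rfl⟩
    exact h g g.2
  · exact fun _ _ _ _ e => Phi.symm.injective (Subtype.ext e)

theorem chn_step_zero : Nat.card (chn 0) ≤ 37800 * Nat.card (chn 1) :=
  card_le_of_images _ _ _ minimal_finite_card.1 _ minimal_finite_card.2 fun g hg => by
    obtain ⟨u, i, hu, e, -⟩ := image_spec (j := 0) hg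
    obtain ⟨hI, hn⟩ := mem_unitsL hu
    rw [show Fin.ofNat 6 0 = (0 : Fin 6) from rfl, e, toV_smulV hI (rep_ok i.2).1]
    exact good_smul (toH_mem hI) hn (rep_ok i.2).2

set_option maxRecDepth 8000 in
theorem chn_step (j : Fin 5) :
    Nat.card (chn (j + 1)) ≤ countCands (consData (j + 1)) * Nat.card (chn (j + 2)) := by
  classical
  set T := (Finset.range 315).biUnion fun i =>
    (sieve (rep i) (consData (j + 1)) unitsL).toFinset.image fun u => toV (smulV u (rep i)) with hT
  refine card_le_of_images _ _ (T : Set HV) (Finset.finite_toSet _) _ ?_ fun g hg => ?_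
  · rw [Set.ncard_coe_finset]
    refine Finset.card_biUnion_le.trans ((Finset.sum_le_sum fun i _ =>
      Finset.card_image_le.trans (List.toFinset_card_le _)).trans (le_of_eq rfl))
  · have hj : Fin.ofNat 6 (j + 1) = (⟨j + 1, by omega⟩ : Fin 6) := Fin.ext (by simp; omega)
    have h0 := image_spec (j := (⟨(j : ℕ) + 1, by omega⟩ : Fin 6)) (g := g)
    specialize h0 hg
    refine h0.elim fun u h1 => h1.elim fun i h2 => ?_
    have hu := h2.1
    have e := h2.2.1
    have hc := h2.2.2
    rw [hj, e]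
    simp only [T, Finset.coe_biUnion, Set.mem_iUnion, Finset.mem_coe, Finset.mem_range,
      Finset.mem_image, List.mem_toFinset]
    exact ⟨i, i.2, u, mem_sieve _ _ _ hu (by rw [cons_check j]; exact hc), rfl⟩

theorem chn_six : chn 6 = ⊥ := by
  refine (Subgroup.eq_bot_iff_forall _).2 fun g hg => ?_
  have hfix : ∀ a : Fin 24, g • EW (fun k => entry orbCoef a k) = EW (fun k => entry orbCoef a k) := by
    intro a
    set l : Fin 6 := ⟨(a : ℕ) / 4, by omega⟩
    have e : EL (fun k => entry orbCoef a k) = bP l ((a : ℕ) % 4) := by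
      refine Subtype.ext ?_
      rw [EL_val]
      show ∑ k : Fin 24, entry orbCoef a k • toV (bV k) = toV (orbV a)
      have hcomb : ∀ (n : ℕ) (c : Fin n → ℤ) (f : Fin n → V8),
          toH (comb (List.ofFn c) (List.ofFn f)) = ∑ k, c k • toH (f k) := by
        intro n
        induction n with
        | zero => intro c f; simp [comb, toH_zero]
        | succ n ih =>
          intro c f
          rw [List.ofFn_succ, List.ofFn_succ, comb, toH_add, toH_smul, ih, Fin.sum_univ_succ]
      obtain ⟨h1, h2, h3⟩ := orb_check a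
      funext t
      rw [Finset.sum_apply]
      fin_cases t
      · simp only [toV, Pi.smul_apply, Matrix.cons_val_zero, Fin.zero_eta]
        rw [← hcomb, h1]
      · simp only [toV, Pi.smul_apply, Matrix.cons_val_one, Matrix.cons_val_zero, Fin.mk_one]
        rw [← hcomb, h2]
      · simp only [toV, Pi.smul_apply, Matrix.cons_val, Fin.reduceFinMk]
        rw [← hcomb, h3]
    rw [← phi_EL, e]
    exact fix_bP (chn_le _ hg) (chn_fix le_rfl hg l l.2) _
  let H : AddSubgroup Co :=
    { carrier := {c | g • EW c = EW c}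
      add_mem' := fun {x y} hx hy => by
        have e : EW (x + y) = EW x + EW y := Subtype.ext (by simp [EW_val])
        show g • EW (x + y) = EW (x + y)
        rw [e, Leech.co0_add, hx, hy]
      zero_mem' := by
        show g • EW 0 = EW 0
        rw [show EW 0 = 0 from Subtype.ext (by simp [EW_val])]
        exact map_zero (Leech.actHom g)
      neg_mem' := fun {x} hx => by
        have e : EW (-x) = -EW x := Subtype.ext (by simp [EW_val])
        show g • EW (-x) = EW (-x)
        rw [e, Leech.co0_neg, hx] }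
  have hall : ∀ c, g • EW c = EW c := fun c => forall_of_single H (fun m => by
    have e : (Pi.single m 1 : Co) =
        ∑ a : Fin 24, entry orbInv m a • fun k : Fin 24 => entry orbCoef a k := by
      funext k
      simp only [Finset.sum_apply, Pi.smul_apply, smul_eq_mul, Pi.single_apply]
      rw [eq_comm, ← range_sum (fun a => entry orbInv m a * entry orbCoef a k), orbInv_check]
      simp [eq_comm]
    rw [e]
    exact sum_mem fun a _ => zsmul_mem (hfix a) _) c
  refine eq_of_smul_eq_smul (α := leechLattice) fun v => ?_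
  obtain ⟨c, rfl⟩ := EW.surjective v
  rw [hall, one_smul]

theorem card_cenA_le : Nat.card cenA ≤ 6048000 := by
  have h0 := chn_step_zero
  have h1 := chn_step 0
  have h2 := chn_step 1
  have h3 := chn_step 2
  have h4 := chn_step 3
  have h5 := chn_step 4
  simp only [Fin.val_zero, Fin.val_one, Fin.val_two, show ((3 : Fin 5) : ℕ) = 3 from rfl,
    show ((4 : Fin 5) : ℕ) = 4 from rfl, Nat.reduceAdd, count_one, count_two, count_three, count_four,
    count_five] at h1 h2 h3 h4 h5
  have h6 : Nat.card (chn 6) = 1 := by rw [chn_six, Subgroup.card_bot]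
  show Nat.card (chn 0) ≤ _
  omega

theorem jHom_mem (g : twoJ2) : jHom g ∈ cenA := mem_cenA.2 (jHom_comm g)

/-- The centraliser is the scalars times the reflection group. -/
theorem exists_decomp {g : Co0} (hg : g ∈ cenA) :
    ∃ (k : ℕ) (h : twoJ2), g = aElt ^ k * jHom h := by
  let θ : Fin 5 × twoJ2 → cenA := fun p =>
    ⟨aElt ^ (p.1 : ℕ) * jHom p.2,
      mul_mem (pow_mem (mem_cenA.2 rfl) _) (jHom_mem _)⟩
  have hinj : Function.Injective θ := by
    rintro ⟨k, h⟩ ⟨k', h'⟩ e
    have e' : aElt ^ (k : ℕ) * jHom h = aElt ^ (k' : ℕ) * jHom h' := congrArg Subtype.val e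
    obtain ⟨c, hc⟩ : ∃ c, c = h' * h⁻¹ := ⟨_, rfl⟩
    have hck : jHom c = (aElt ^ (k' : ℕ))⁻¹ * aElt ^ (k : ℕ) := by
      rw [hc, map_mul, map_inv, eq_inv_mul_iff_mul_eq, ← mul_assoc, ← e', mul_inv_cancel_right]
    have hcen : c ∈ Subgroup.center twoJ2 := Subgroup.mem_center_iff.2 fun y => jHom_injective (by
      rw [map_mul, map_mul, hck]
      have hy : Commute (jHom y) aElt := jHom_comm y
      exact ((hy.pow_right _).inv_right.mul_right (hy.pow_right _)).eq)
    haveI : Finite twoJ2 := Finite.of_injective jHom jHom_injective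
    have h2 : c ^ 2 = 1 := by
      have := pow_card_eq_one' (x := (⟨c, hcen⟩ : Subgroup.center twoJ2))
      rw [card_center] at this
      exact congrArg Subtype.val this
    have h3 : jHom c ^ 2 = 1 := by rw [← map_pow, h2, map_one]
    rw [hck, ((Commute.pow_pow_self aElt _ _).inv_left).mul_pow, inv_pow, inv_mul_eq_one, ← pow_mul,
      ← pow_mul, pow_eq_pow_iff_modEq, orderOf_aElt] at h3
    have hk : k' = k := Fin.ext (by
      have := k.2; have := k'.2
      simp only [Nat.ModEq] at h3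
      omega)
    subst hk
    rw [jHom_injective (mul_left_cancel e')]
  have hcard : Nat.card cenA ≤ Nat.card (Fin 5 × twoJ2) := by
    rw [Nat.card_prod, Nat.card_fin, card_twoJ2, card_P]
    exact card_cenA_le
  obtain ⟨⟨k, h⟩, e⟩ := (hinj.bijective_of_nat_card_le hcard).2 ⟨g, hg⟩
  exact ⟨k, h, (congrArg Subtype.val e).symm⟩

end Cfsg.Agent.LeechIcosian
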