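import Cfsg.Agent.Lib.LeechIcosian.Defs

/-! Kernel checks. -/

set_option autoImplicit false

namespace Cfsg.Agent.LeechIcosian

open Cfsg HJ HJ.V8

theorem gen3_check : ((List.range 3).all fun i =>
    inI (gen3 i).x && inI (gen3 i).y && inI (gen3 i).z && inIdeal vh (sub (gen3 i).x (gen3 i).y) &&
      inIdeal vh (sub (gen3 i).y (gen3 i).z) &&
      inIdeal (conj vh) (V8.add (V8.add (gen3 i).x (gen3 i).y) (gen3 i).z)) = true := by decide +kernel

theorem basis_check : basis.all inI = true ∧ basis.length = 8 := by decide +kernel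

theorem gram_check : ∀ j k : Fin 24, (symV (bV j) (bV k)).a1 = 0 ∧ (symV (bV j) (bV k)).b1 = 0 ∧
    (symV (bV j) (bV k)).a2 = 0 ∧ (symV (bV j) (bV k)).b2 = 0 ∧ (symV (bV j) (bV k)).a3 = 0 ∧
    (symV (bV j) (bV k)).b3 = 0 ∧ T2 (bV j) (bV k) = wDot j k := by decide +kernel

theorem wInv_check : ∀ j k : Fin 24,
    ((List.range 24).map fun i => entry wTab j i * entry wInv i k).sum = if j = k then wDen else 0 := by
  decide +kernel

theorem lattice_check : ((List.range 24).all fun k => Leech.inLB (wV (Fin.ofNat 24 k))) = true := by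
  decide +kernel

theorem latGens_check :
    (Leech.latGens.map fun g => (List.range 24).map fun i => g (Mathieu.idx Mathieu.ptEnc i)) =
      latCoef.map fun c => (List.range 24).map fun i =>
        ((List.range 24).map fun j => c.getD j 0 * entry wTab j i).sum := by decide +kernel

theorem orb_check : ∀ a : Fin 24,
    comb (List.ofFn fun k : Fin 24 => entry orbCoef a k) (List.ofFn fun k => (bV k).x) = (orbV a).x ∧
    comb (List.ofFn fun k : Fin 24 => entry orbCoef a k) (List.ofFn fun k => (bV k).y) = (orbV a).y ∧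
    comb (List.ofFn fun k : Fin 24 => entry orbCoef a k) (List.ofFn fun k => (bV k).z) = (orbV a).z := by
  decide +kernel

theorem orbInv_check : ∀ m k : Fin 24,
    ((List.range 24).map fun a => entry orbInv m a * entry orbCoef a k).sum =
      if m = k then 1 else 0 := by decide +kernel

theorem wU_check : inI wU = true ∧ nrm wU = (4, 0) ∧ wU ≠ V8.one ∧
    mul wU (mul wU (mul wU (mul wU wU))) = V8.one ∧ wU.a0 = -1 ∧ wU.b0 = -1 := by decide +kernel

theorem baseIdx_check : ((List.range 6).all fun j =>
    decide ((baseIdx.getD j (0, 0)).1 < 120) && decide ((baseIdx.getD j (0, 0)).2 < 315)) = true := by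
  decide +kernel

end Cfsg.Agent.LeechIcosian
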