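import Cfsg.Agent.Lib.LeechIcosian.Defs

/-! The constraints of the orbit bounds, as data. -/

set_option autoImplicit false

namespace Cfsg.Agent.LeechIcosian

open HJ

/-- The constraints for base vectors 1 to 5. -/
def consTab : List (List (V3 × ℤ)) := [
  [
    (⟨⟨8,0,0,0,0,0,0,0⟩, ⟨0,0,0,0,0,0,0,0⟩, ⟨0,0,0,0,0,0,0,0⟩⟩, -32),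
    (⟨⟨-2,-2,-4,0,0,0,-2,2⟩, ⟨0,0,0,0,0,0,0,0⟩, ⟨0,0,0,0,0,0,0,0⟩⟩, 0),
    (⟨⟨-2,2,2,2,0,0,-4,0⟩, ⟨0,0,0,0,0,0,0,0⟩, ⟨0,0,0,0,0,0,0,0⟩⟩, 0),
    (⟨⟨-2,2,-2,-2,0,0,4,0⟩, ⟨0,0,0,0,0,0,0,0⟩, ⟨0,0,0,0,0,0,0,0⟩⟩, 0)],
  [
    (⟨⟨8,0,0,0,0,0,0,0⟩, ⟨0,0,0,0,0,0,0,0⟩, ⟨0,0,0,0,0,0,0,0⟩⟩, -32),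
    (⟨⟨-2,-2,-4,0,0,0,-2,2⟩, ⟨0,0,0,0,0,0,0,0⟩, ⟨0,0,0,0,0,0,0,0⟩⟩, 0),
    (⟨⟨-2,2,2,2,0,0,-4,0⟩, ⟨0,0,0,0,0,0,0,0⟩, ⟨0,0,0,0,0,0,0,0⟩⟩, 16),
    (⟨⟨-2,2,-2,-2,0,0,4,0⟩, ⟨0,0,0,0,0,0,0,0⟩, ⟨0,0,0,0,0,0,0,0⟩⟩, -16),
    (⟨⟨-4,0,0,0,-2,-2,2,-2⟩, ⟨0,0,0,0,0,0,0,0⟩, ⟨0,0,0,0,0,0,0,0⟩⟩, 16),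
    (⟨⟨4,0,4,0,4,0,4,0⟩, ⟨0,0,0,0,0,0,0,0⟩, ⟨0,0,0,0,0,0,0,0⟩⟩, -16),
    (⟨⟨2,-2,-2,-2,0,0,-4,0⟩, ⟨0,0,0,0,0,0,0,0⟩, ⟨0,0,0,0,0,0,0,0⟩⟩, 0),
    (⟨⟨0,0,2,2,-4,0,-2,2⟩, ⟨0,0,0,0,0,0,0,0⟩, ⟨0,0,0,0,0,0,0,0⟩⟩, 0)],
  [
    (⟨⟨8,0,0,0,0,0,0,0⟩, ⟨0,0,0,0,0,0,0,0⟩, ⟨0,0,0,0,0,0,0,0⟩⟩, -32),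
    (⟨⟨-2,-2,-4,0,0,0,-2,2⟩, ⟨0,0,0,0,0,0,0,0⟩, ⟨0,0,0,0,0,0,0,0⟩⟩, 0),
    (⟨⟨-2,2,2,2,0,0,-4,0⟩, ⟨0,0,0,0,0,0,0,0⟩, ⟨0,0,0,0,0,0,0,0⟩⟩, 16),
    (⟨⟨-2,2,-2,-2,0,0,4,0⟩, ⟨0,0,0,0,0,0,0,0⟩, ⟨0,0,0,0,0,0,0,0⟩⟩, -16),
    (⟨⟨-4,0,0,0,-2,-2,2,-2⟩, ⟨0,0,0,0,0,0,0,0⟩, ⟨0,0,0,0,0,0,0,0⟩⟩, 16),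
    (⟨⟨4,0,4,0,4,0,4,0⟩, ⟨0,0,0,0,0,0,0,0⟩, ⟨0,0,0,0,0,0,0,0⟩⟩, -16),
    (⟨⟨2,-2,-2,-2,0,0,-4,0⟩, ⟨0,0,0,0,0,0,0,0⟩, ⟨0,0,0,0,0,0,0,0⟩⟩, 0),
    (⟨⟨0,0,2,2,-4,0,-2,2⟩, ⟨0,0,0,0,0,0,0,0⟩, ⟨0,0,0,0,0,0,0,0⟩⟩, 0),
    (⟨⟨-4,0,2,0,-1,1,-1,-1⟩, ⟨0,0,-2,0,-1,1,-1,-1⟩, ⟨2,0,0,0,-1,-1,1,-1⟩⟩, 32),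
    (⟨⟨3,1,0,0,-2,0,3,-1⟩, ⟨0,0,-1,1,-1,-1,2,0⟩, ⟨1,-1,0,0,2,0,1,1⟩⟩, -32),
    (⟨⟨0,-2,-2,0,2,0,2,0⟩, ⟨0,0,0,0,4,0,0,0⟩, ⟨0,0,0,0,0,0,-4,0⟩⟩, 16),
    (⟨⟨2,0,1,1,1,-1,-4,0⟩, ⟨0,0,1,-1,-1,-1,-2,0⟩, ⟨-1,1,0,0,-2,0,1,1⟩⟩, -16)],
  [
    (⟨⟨8,0,0,0,0,0,0,0⟩, ⟨0,0,0,0,0,0,0,0⟩, ⟨0,0,0,0,0,0,0,0⟩⟩, -32),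
    (⟨⟨-2,-2,-4,0,0,0,-2,2⟩, ⟨0,0,0,0,0,0,0,0⟩, ⟨0,0,0,0,0,0,0,0⟩⟩, 0),
    (⟨⟨-2,2,2,2,0,0,-4,0⟩, ⟨0,0,0,0,0,0,0,0⟩, ⟨0,0,0,0,0,0,0,0⟩⟩, 16),
    (⟨⟨-2,2,-2,-2,0,0,4,0⟩, ⟨0,0,0,0,0,0,0,0⟩, ⟨0,0,0,0,0,0,0,0⟩⟩, -16),
    (⟨⟨-4,0,0,0,-2,-2,2,-2⟩, ⟨0,0,0,0,0,0,0,0⟩, ⟨0,0,0,0,0,0,0,0⟩⟩, 16),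
    (⟨⟨4,0,4,0,4,0,4,0⟩, ⟨0,0,0,0,0,0,0,0⟩, ⟨0,0,0,0,0,0,0,0⟩⟩, 0),
    (⟨⟨2,-2,-2,-2,0,0,-4,0⟩, ⟨0,0,0,0,0,0,0,0⟩, ⟨0,0,0,0,0,0,0,0⟩⟩, -16),
    (⟨⟨0,0,2,2,-4,0,-2,2⟩, ⟨0,0,0,0,0,0,0,0⟩, ⟨0,0,0,0,0,0,0,0⟩⟩, 0),
    (⟨⟨-4,0,2,0,-1,1,-1,-1⟩, ⟨0,0,-2,0,-1,1,-1,-1⟩, ⟨2,0,0,0,-1,-1,1,-1⟩⟩, 16),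
    (⟨⟨3,1,0,0,-2,0,3,-1⟩, ⟨0,0,-1,1,-1,-1,2,0⟩, ⟨1,-1,0,0,2,0,1,1⟩⟩, -16),
    (⟨⟨0,-2,-2,0,2,0,2,0⟩, ⟨0,0,0,0,4,0,0,0⟩, ⟨0,0,0,0,0,0,-4,0⟩⟩, 16),
    (⟨⟨2,0,1,1,1,-1,-4,0⟩, ⟨0,0,1,-1,-1,-1,-2,0⟩, ⟨-1,1,0,0,-2,0,1,1⟩⟩, -16),
    (⟨⟨-4,0,2,0,-1,1,-1,-1⟩, ⟨-2,0,0,0,1,1,-1,1⟩, ⟨0,0,-2,0,-1,1,-1,-1⟩⟩, 32),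
    (⟨⟨3,1,0,0,-2,0,3,-1⟩, ⟨-1,1,0,0,-2,0,-1,-1⟩, ⟨0,0,-1,1,-1,-1,2,0⟩⟩, -32),
    (⟨⟨0,-2,-2,0,2,0,2,0⟩, ⟨0,0,0,0,0,0,4,0⟩, ⟨0,0,0,0,4,0,0,0⟩⟩, 16),
    (⟨⟨2,0,1,1,1,-1,-4,0⟩, ⟨1,-1,0,0,2,0,-1,-1⟩, ⟨0,0,1,-1,-1,-1,-2,0⟩⟩, 0)],
  [
    (⟨⟨8,0,0,0,0,0,0,0⟩, ⟨0,0,0,0,0,0,0,0⟩, ⟨0,0,0,0,0,0,0,0⟩⟩, -32),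
    (⟨⟨-2,-2,-4,0,0,0,-2,2⟩, ⟨0,0,0,0,0,0,0,0⟩, ⟨0,0,0,0,0,0,0,0⟩⟩, 0),
    (⟨⟨-2,2,2,2,0,0,-4,0⟩, ⟨0,0,0,0,0,0,0,0⟩, ⟨0,0,0,0,0,0,0,0⟩⟩, 16),
    (⟨⟨-2,2,-2,-2,0,0,4,0⟩, ⟨0,0,0,0,0,0,0,0⟩, ⟨0,0,0,0,0,0,0,0⟩⟩, -16),
    (⟨⟨-4,0,0,0,-2,-2,2,-2⟩, ⟨0,0,0,0,0,0,0,0⟩, ⟨0,0,0,0,0,0,0,0⟩⟩, 16),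
    (⟨⟨4,0,4,0,4,0,4,0⟩, ⟨0,0,0,0,0,0,0,0⟩, ⟨0,0,0,0,0,0,0,0⟩⟩, -16),
    (⟨⟨2,-2,-2,-2,0,0,-4,0⟩, ⟨0,0,0,0,0,0,0,0⟩, ⟨0,0,0,0,0,0,0,0⟩⟩, 0),
    (⟨⟨0,0,2,2,-4,0,-2,2⟩, ⟨0,0,0,0,0,0,0,0⟩, ⟨0,0,0,0,0,0,0,0⟩⟩, 0),
    (⟨⟨-4,0,2,0,-1,1,-1,-1⟩, ⟨0,0,-2,0,-1,1,-1,-1⟩, ⟨2,0,0,0,-1,-1,1,-1⟩⟩, 32),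
    (⟨⟨3,1,0,0,-2,0,3,-1⟩, ⟨0,0,-1,1,-1,-1,2,0⟩, ⟨1,-1,0,0,2,0,1,1⟩⟩, -16),
    (⟨⟨0,-2,-2,0,2,0,2,0⟩, ⟨0,0,0,0,4,0,0,0⟩, ⟨0,0,0,0,0,0,-4,0⟩⟩, 0),
    (⟨⟨2,0,1,1,1,-1,-4,0⟩, ⟨0,0,1,-1,-1,-1,-2,0⟩, ⟨-1,1,0,0,-2,0,1,1⟩⟩, 0),
    (⟨⟨-4,0,2,0,-1,1,-1,-1⟩, ⟨-2,0,0,0,1,1,-1,1⟩, ⟨0,0,-2,0,-1,1,-1,-1⟩⟩, 32),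
    (⟨⟨3,1,0,0,-2,0,3,-1⟩, ⟨-1,1,0,0,-2,0,-1,-1⟩, ⟨0,0,-1,1,-1,-1,2,0⟩⟩, -16),
    (⟨⟨0,-2,-2,0,2,0,2,0⟩, ⟨0,0,0,0,0,0,4,0⟩, ⟨0,0,0,0,4,0,0,0⟩⟩, 0),
    (⟨⟨2,0,1,1,1,-1,-4,0⟩, ⟨1,-1,0,0,2,0,-1,-1⟩, ⟨0,0,1,-1,-1,-1,-2,0⟩⟩, 0),
    (⟨⟨-4,0,1,1,2,0,1,-1⟩, ⟨1,-1,2,0,1,1,0,0⟩, ⟨1,-1,2,0,1,1,0,0⟩⟩, 16),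
    (⟨⟨3,1,1,-1,1,-1,1,-1⟩, ⟨2,0,-2,0,-2,0,-2,0⟩, ⟨2,0,-2,0,-2,0,-2,0⟩⟩, -16),
    (⟨⟨0,-2,1,-1,0,0,1,1⟩, ⟨-2,0,-1,1,0,0,1,1⟩, ⟨-2,0,-1,1,0,0,1,1⟩⟩, 0),
    (⟨⟨2,0,1,1,-1,1,-4,0⟩, ⟨-1,1,0,0,2,0,-1,-1⟩, ⟨-1,1,0,0,2,0,-1,-1⟩⟩, 16)]]

/-- The tabulated constraints for base vector `j`. -/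
def consData (j : ℕ) : List (V3 × ℤ) := consTab.getD (j - 1) []

end Cfsg.Agent.LeechIcosian
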