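import Cfsg.Agent.Lib.HallJanko.Ring

/-! Data: the icosian Leech lattice as the Leech lattice, and a base for the centraliser of a scalar of order five. -/

set_option autoImplicit false

namespace Cfsg.Agent.LeechIcosian

open HJ

/-- The images of the lattice basis. -/
def wTab : List (List ℤ) := [
  [0,0,2,-2,2,6,-4,2,-2,-2,-2,4,-2,-2,-4,-4,0,2,-2,2,2,2,2,0],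
  [-2,-2,-4,0,-4,0,2,0,0,0,6,-6,-2,0,0,0,0,0,4,0,-2,-2,-4,0],
  [-2,-4,4,0,0,2,6,2,4,2,2,-2,-6,0,4,0,0,-6,-4,2,-4,-2,0,2],
  [0,0,2,-2,0,6,-4,0,-2,0,-2,4,-2,-4,0,-6,0,0,-4,0,0,0,0,-2],
  [0,0,-6,-2,0,0,2,0,0,0,6,-6,-2,2,0,0,0,0,6,0,0,0,0,0],
  [-3,-3,1,-3,-1,1,7,-1,7,-1,1,-1,-7,3,3,1,1,-3,-1,-1,-3,-3,-1,3],
  [-1,1,3,-3,1,5,-5,1,-3,1,-1,5,-1,-1,-1,-5,-3,3,-1,-1,1,1,-1,1],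
  [0,-2,-4,2,0,0,4,-2,0,-2,6,-6,-4,-2,0,0,0,0,4,0,-2,0,0,0],
  [-5,-3,3,-1,3,5,5,-1,5,-1,1,-1,-5,1,3,3,1,-3,-3,1,-3,-5,3,1],
  [-1,1,1,-1,3,5,-5,3,-3,-1,-1,5,-1,1,-5,-1,-3,3,1,-1,1,1,1,1],
  [0,-2,0,2,-4,0,4,-2,0,-2,6,-6,-4,-2,0,0,0,0,0,0,-2,0,-4,0],
  [-3,-1,5,3,3,5,5,1,1,1,1,-1,-5,-3,3,1,3,-5,-5,3,-1,-3,3,1],
  [0,0,0,0,2,2,-2,2,-2,-2,0,2,0,0,-4,0,0,2,0,2,2,2,2,0],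
  [-2,-2,0,0,-4,0,2,0,0,0,2,-2,-2,0,0,0,0,0,0,0,-2,-2,-4,0],
  [0,-2,4,2,0,2,2,2,0,2,0,0,-2,-2,2,-2,0,-4,-4,2,-2,0,0,0],
  [1,-1,1,-1,3,3,-3,3,-1,-3,-1,3,-1,1,-7,-1,-1,3,1,3,3,3,3,1],
  [-4,-2,0,2,-6,0,2,0,0,0,4,-4,-2,-2,0,0,0,0,0,0,-2,-4,-6,0],
  [-1,-3,5,3,1,3,3,5,-1,5,1,-1,-3,-3,3,-1,-1,-7,-5,3,-3,-1,1,1],
  [0,0,2,-2,0,2,-2,0,-2,2,0,2,0,-2,2,-4,-2,0,-2,0,0,0,-2,0],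
  [0,0,-4,0,2,0,2,-2,0,-2,2,-2,-2,0,0,0,0,0,4,0,0,0,2,0],
  [-4,-2,0,-2,0,2,2,-2,4,-2,0,0,-2,2,2,2,0,0,0,-2,-2,-4,0,0],
  [-1,1,3,-3,-1,3,-3,-1,-3,3,-1,3,-1,-3,3,-7,-1,1,-3,-1,1,1,-3,1],
  [0,-2,-6,0,4,0,2,-2,0,-2,4,-4,-2,0,0,0,0,0,6,0,-2,0,4,0],
  [-5,-3,1,-5,1,3,3,-3,7,-3,1,-1,-3,5,3,3,-1,1,-1,-1,-3,-5,1,1]]

/-- A multiple of the inverse of `wTab`. -/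
def wInv : List (List ℤ) := [
  [-2,3,-3,2,-2,2,0,1,-5,0,0,4,-2,1,-2,2,-3,2,2,-1,-1,-2,0,3],
  [4,-3,1,-2,2,0,2,-1,3,0,0,-2,0,-1,2,-4,3,-2,0,1,-3,-2,0,-1],
  [2,-3,3,-2,2,-2,4,-3,1,-2,2,0,-2,1,0,0,1,-2,0,-1,3,-2,2,-3],
  [-4,3,-1,2,-2,0,-2,3,-3,2,-2,2,0,-1,2,2,-1,0,-2,1,-1,2,-2,3],
  [2,-3,3,-2,2,-2,-6,3,1,4,-2,0,-2,1,2,0,1,-4,4,-3,1,2,0,-1],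
  [0,5,-5,0,-2,2,0,1,1,0,0,0,0,-1,2,0,-3,2,0,1,-1,0,-2,1],
  [2,-3,-7,-2,2,4,2,1,3,-2,0,-2,2,1,4,-2,1,2,2,-1,-1,-2,0,-1],
  [4,-3,1,-2,2,0,0,3,-5,0,-2,2,0,1,0,-2,1,0,2,-3,3,-2,0,1],
  [0,1,1,0,0,0,0,3,3,0,-2,-2,0,-3,2,0,1,-2,0,-1,-1,0,-2,-1],
  [-4,1,-1,2,0,0,0,3,5,0,-2,-2,0,1,0,2,-1,0,-2,-1,-3,2,-2,-1],
  [-4,1,-1,2,0,2,4,-3,1,-2,2,0,4,-3,0,0,1,0,0,-1,-1,-2,2,-1],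
  [-4,3,-1,2,-2,2,4,-1,1,-2,0,0,4,-1,0,0,-1,0,0,1,-1,-2,0,-1],
  [2,1,-7,-2,0,4,2,-3,3,-2,2,-2,2,-3,4,-2,1,2,2,-1,-1,-2,2,-1],
  [-4,1,-1,2,0,0,-2,-1,-3,2,0,2,0,1,2,2,-1,0,-2,1,-1,2,0,3],
  [0,3,3,0,-2,-2,0,3,-7,0,-2,4,0,1,-2,0,-3,0,0,1,3,0,-2,3],
  [0,3,3,0,-2,-2,0,1,1,0,0,0,0,1,-4,0,-3,0,0,1,1,0,-2,-1],
  [0,1,1,0,0,0,0,-1,-1,0,0,2,0,1,0,0,-1,-2,0,-3,1,0,2,-1],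
  [0,-1,-1,0,0,0,0,7,-3,0,-4,2,0,3,0,0,-1,0,0,-3,-1,0,-2,3],
  [2,1,3,-2,0,-2,4,-1,1,-2,0,0,-2,1,0,0,-1,-2,0,1,3,-2,0,-3],
  [0,3,3,0,-2,-2,0,1,1,0,-2,0,0,1,0,0,-1,-2,0,3,-3,0,-2,1],
  [-4,1,-1,2,0,0,-2,1,-3,0,0,2,0,-1,-2,4,-1,2,0,1,3,2,-2,1],
  [2,1,3,-2,0,-2,0,1,5,0,0,-4,2,-1,2,-2,-1,-2,-2,1,1,2,-2,-3],
  [-2,-1,-3,2,0,2,6,-3,-1,-4,2,0,2,-1,-2,0,1,4,-4,1,-1,-2,2,1],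
  [0,5,-5,0,-4,4,0,-3,-3,0,2,2,0,-3,-2,0,-1,4,0,1,-3,0,2,3]]

/-- The multiplier of `wInv`. -/
def wDen : ℤ := 8

/-- Coordinates of the generators of the Leech lattice. -/
def latCoef : List (List ℤ) := [
  [-1,4,-4,1,-3,3,0,-1,-4,0,1,3,-1,-1,-2,1,-2,3,1,0,-2,-1,1,3],
  [2,1,-2,-1,-1,2,1,-2,0,0,1,0,0,-2,0,-2,1,1,0,1,-3,-1,1,1],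
  [1,1,-1,-1,-1,1,2,-3,-1,-1,2,1,-1,-1,-1,0,0,1,0,0,0,-1,2,0],
  [-2,4,-3,1,-3,2,-1,0,-3,1,0,2,0,-2,0,1,-1,2,-1,1,-2,1,0,3],
  [1,1,-1,-1,-1,1,-3,0,-1,2,0,1,-1,-1,0,0,0,0,2,-1,-1,1,1,1],
  [0,5,-5,0,-3,3,0,-1,-1,0,1,1,0,-2,0,0,-2,3,0,1,-2,0,0,2],
  [1,1,-6,-1,-1,4,1,-1,0,-1,1,0,1,-1,1,-1,0,3,1,0,-2,-1,1,1],
  [2,1,-2,-1,-1,2,0,0,-4,0,0,2,0,-1,-1,-1,0,2,1,-1,0,-1,1,2],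
  [0,3,-2,0,-2,2,0,0,0,0,0,0,0,-3,0,0,0,1,0,0,-2,0,0,1],
  [-2,3,-3,1,-2,2,0,0,1,0,0,0,0,-1,-1,1,-1,2,-1,0,-3,1,0,1],
  [-2,3,-3,1,-2,3,2,-3,-1,-1,2,1,2,-3,-1,0,0,2,0,0,-2,-1,2,1],
  [-2,4,-3,1,-3,3,2,-2,-1,-1,1,1,2,-2,-1,0,-1,2,0,1,-2,-1,1,1],
  [1,3,-6,-1,-2,4,1,-3,0,-1,2,0,1,-3,1,-1,0,3,1,0,-2,-1,2,1],
  [-2,3,-3,1,-2,2,-1,-2,-3,1,1,2,0,-1,0,1,-1,2,-1,1,-2,1,1,3],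
  [0,4,-1,0,-3,1,0,0,-5,0,0,3,0,-1,-2,0,-2,2,0,1,0,0,0,3],
  [0,4,-1,0,-3,1,0,-1,-1,0,1,1,0,-1,-3,0,-2,2,0,1,-1,0,0,1],
  [0,3,-2,0,-2,2,0,-2,-2,0,1,2,0,-1,-1,0,-1,1,0,-1,-1,0,2,1],
  [0,2,-3,0,-2,2,0,2,-3,0,-1,2,0,0,-1,0,-1,2,0,-1,-2,0,0,3],
  [1,3,-1,-1,-2,1,2,-2,-1,-1,1,1,-1,-1,-1,0,-1,1,0,1,0,-1,1,0],
  [0,4,-1,0,-3,1,0,-1,-1,0,0,1,0,-1,-1,0,-1,1,0,2,-3,0,0,2],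
  [-2,3,-3,1,-2,2,-1,-1,-3,0,1,2,0,-2,-2,2,-1,3,0,1,0,1,0,2],
  [1,3,-1,-1,-2,1,0,-1,1,0,1,-1,1,-2,0,-1,-1,1,-1,1,-1,1,0,0],
  [-1,2,-4,1,-2,3,3,-3,-2,-2,2,1,1,-2,-2,0,0,4,-2,1,-2,-1,2,2],
  [0,5,-5,0,-4,4,0,-3,-3,0,2,2,0,-3,-2,0,-1,4,0,1,-3,0,2,3],
  [-1,0,1,0,1,-1,2,3,1,-1,-2,0,1,1,2,0,-1,-2,0,-1,1,-1,-2,-1],
  [0,3,-3,0,-2,2,3,0,-4,-2,0,3,0,0,-1,0,-2,2,0,-1,0,-2,1,2],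
  [0,2,0,0,-1,0,2,-1,-1,-1,0,1,1,0,0,-1,-1,0,-1,1,-1,-1,0,1],
  [-1,2,-2,0,-1,1,3,-3,-1,-2,2,1,0,-1,-1,1,-1,2,-1,1,1,-1,1,0],
  [-1,2,-1,0,-1,0,2,1,0,-1,-1,0,1,0,2,0,-1,0,-2,1,-1,0,-1,1],
  [-1,2,-2,0,-1,1,-2,1,-2,1,-1,2,0,0,1,1,-1,0,1,-1,-1,1,0,2],
  [-1,4,-1,0,-2,0,0,2,-3,0,-1,2,0,0,0,1,-3,1,-1,1,1,1,-2,2],
  [1,3,0,-1,-2,0,3,0,0,-2,0,0,1,0,-1,-1,-2,1,-1,2,0,-1,-1,0],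
  [1,2,1,-1,-1,-1,1,3,-3,-1,-2,2,0,1,-1,0,-2,0,1,0,2,-1,-2,1],
  [-1,3,3,0,-1,-2,0,1,1,0,-1,0,0,0,0,1,-2,-2,-1,1,1,1,-2,-1],
  [-2,2,1,1,-1,-1,1,3,-1,-1,-2,1,1,1,-1,1,-2,0,-2,0,0,1,-2,1],
  [-1,4,-1,0,-2,1,1,-1,-1,-1,1,1,2,-2,-1,0,-2,1,0,0,1,0,0,0],
  [-2,3,-1,1,-2,1,2,0,-1,-1,0,1,2,0,-1,0,-2,1,-2,0,-1,0,0,1]]

/-- The scalar of order five. -/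
def wU : V8 := ⟨-1,-1,-2,0,0,0,-1,1⟩

/-- Unit and line of the six base vectors. -/
def baseIdx : List (ℕ × ℕ) := [(0, 0), (11, 0), (50, 67), (50, 75), (100, 21), (50, 78)]

/-- The bounds on the orbits along the base. -/
def baseCount : List ℕ := [37800, 5, 16, 1, 2, 1]

/-- Coordinates of the base vectors and their scalar multiples. -/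
def orbCoef : List (List ℤ) := [
  [0,0,0,0,1,-1,0,2,2,0,-1,-1,0,1,2,0,-1,-1,0,0,1,0,-2,-1],
  [0,-1,4,0,0,-2,0,0,0,0,-1,0,0,1,-1,0,1,-2,0,1,-1,0,0,0],
  [0,3,-2,0,-2,1,0,3,-2,0,-1,1,0,-1,-1,0,-2,2,0,0,0,0,-2,2],
  [0,2,-3,0,-1,2,0,-4,1,0,2,0,0,-1,1,0,0,1,0,1,-2,0,2,0],
  [0,0,0,0,0,1,0,-2,-2,0,1,1,0,-2,0,0,1,0,0,-1,1,0,2,0],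
  [0,-3,-3,0,2,1,0,1,1,0,0,-1,0,1,2,0,1,1,0,-1,0,0,0,0],
  [0,-1,4,0,1,-2,0,-1,4,0,0,-2,0,0,0,0,1,-3,0,0,0,0,0,-3],
  [0,1,1,0,-1,-1,0,2,-3,0,-1,1,0,0,-1,0,-1,1,0,2,1,0,-2,2],
  [1,-1,-1,-1,0,1,0,-1,-1,0,1,0,1,-1,0,-1,1,1,0,0,1,0,1,0],
  [2,1,-1,-1,0,0,0,-1,2,0,1,-1,-1,0,1,-1,-1,0,0,0,0,0,0,-1],
  [-2,-2,4,1,1,-2,0,-1,0,0,0,0,1,1,-1,1,1,-2,-1,0,1,1,1,-1],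
  [-1,0,-1,1,0,0,0,4,-2,0,-2,1,-1,1,0,1,-1,1,-1,-1,0,0,-2,2],
  [-1,0,1,0,0,0,0,-1,-1,0,1,1,0,-1,-2,1,0,0,1,-1,2,0,1,-1],
  [2,-1,-1,-1,1,0,-1,0,-2,1,0,1,-1,1,2,-1,0,0,0,0,1,0,0,1],
  [0,-2,2,0,1,-1,-2,1,2,1,-1,-1,0,1,0,0,1,-2,1,-1,-1,1,0,-1],
  [-2,2,0,1,-1,0,2,2,1,-1,-1,-1,2,-1,1,0,-1,0,-2,1,0,0,-2,0],
  [0,1,-1,0,-1,1,0,0,-2,0,0,1,0,-1,-1,0,0,1,0,-1,0,0,1,1],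
  [0,-1,-2,0,1,1,0,-1,2,0,1,-1,0,-1,2,0,1,0,0,-1,0,0,1,-1],
  [0,-3,2,0,2,-1,0,-2,1,0,1,-1,0,0,0,0,2,-1,0,0,0,0,1,-1],
  [0,0,1,0,0,-1,0,2,0,0,-1,0,0,1,-1,0,-1,0,0,1,1,0,-2,0],
  [0,-1,0,0,0,1,4,-3,0,-2,2,0,1,-1,-2,-1,1,1,-1,0,0,-2,2,-1],
  [2,1,-1,-1,0,0,-1,1,-2,0,0,1,-1,1,0,0,-2,1,1,0,3,0,-1,0],
  [-1,-2,3,0,1,-2,-1,0,1,1,-1,0,-1,2,1,1,1,-3,0,-1,0,1,1,-1],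
  [1,0,2,0,0,-1,-1,4,-1,1,-2,0,0,-1,0,-1,0,-1,0,-1,0,0,-2,1]]

/-- A multiple of the inverse of `orbCoef`. -/
def orbInv : List (List ℤ) := [
  [2,1,6,3,1,3,4,2,0,-1,3,0,-1,1,1,-2,0,0,-1,-2,2,1,0,0],
  [-3,2,-2,-4,0,3,2,-1,-2,2,0,-1,3,3,-2,1,0,-2,-4,-2,-3,-3,-4,-2],
  [-1,-1,-3,-5,4,2,-2,-4,1,2,0,-2,-1,-4,-7,-3,-7,-6,-4,0,-4,-4,-1,1],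
  [0,0,5,1,0,3,6,4,-2,-1,3,0,0,4,3,-1,1,1,-3,-4,2,0,-2,-2],
  [-1,2,-5,-3,2,2,-3,-4,0,3,-1,-1,2,-2,-5,0,-2,-4,-2,2,-4,-3,-2,1],
  [-4,-2,-3,-5,2,-1,-4,-5,-1,0,-2,-3,-2,-3,-5,0,-5,-2,0,3,-3,-1,1,1],
  [1,1,6,1,2,5,5,2,-1,0,3,-1,0,2,0,-2,-1,-2,-3,-3,1,-1,-1,-1],
  [-3,2,-4,-2,-1,1,-1,-1,-1,2,-1,0,3,1,-1,2,0,0,-2,0,-2,-1,-2,0],
  [0,-1,-2,-4,3,0,-3,-4,1,1,0,-2,-2,-4,-6,-3,-5,-3,-2,2,-3,-3,0,1],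
  [1,-1,4,2,1,3,3,1,0,-1,2,-1,-1,0,-1,-2,-1,-2,-1,-1,1,0,1,1],
  [-5,1,-1,-2,-4,-1,1,1,-3,0,-1,0,3,5,3,4,2,4,0,-2,0,1,-2,-2],
  [3,3,1,-1,4,5,3,0,2,3,3,1,2,0,-3,-4,-4,-5,-7,-3,-2,-5,-4,-1],
  [2,0,2,2,0,0,0,0,1,-1,1,0,-1,-1,0,-1,0,0,1,0,1,1,1,1],
  [-3,0,0,-3,-1,1,2,0,-2,0,0,-1,1,3,0,1,0,0,-2,-2,-1,-1,-2,-2],
  [1,0,0,-1,2,2,1,0,1,1,1,0,0,-1,-2,-2,-3,-3,-3,-2,-1,-2,-1,0],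
  [2,0,4,4,0,0,0,0,1,-2,1,0,-2,-2,0,-1,0,1,3,1,2,3,3,2],
  [-3,3,3,-3,-1,5,8,3,-3,1,2,0,4,8,2,1,2,0,-6,-6,-1,-3,-6,-5],
  [3,1,-1,-3,6,7,3,-1,3,4,3,0,1,-3,-7,-6,-7,-10,-9,-4,-4,-7,-4,0],
  [0,0,2,-1,1,2,2,1,-1,0,1,-1,0,1,0,-1,-1,-1,-2,-2,0,-1,-1,-1],
  [-1,1,-3,0,0,0,-2,-1,0,1,-1,0,1,-1,-1,1,0,0,0,2,-1,0,0,1],
  [-2,-2,-1,-3,0,-2,-2,-2,-1,-1,-1,-2,-2,-1,-2,0,-1,1,1,2,-1,0,1,0],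
  [1,3,6,0,3,7,7,3,-1,2,4,0,2,4,1,-2,-1,-3,-6,-5,0,-3,-4,-3],
  [-1,0,-7,-2,1,-1,-6,-4,1,2,-2,-1,0,-5,-5,0,-2,-2,0,4,-3,-1,1,3],
  [-3,-4,-3,-5,0,-6,-8,-6,-1,-2,-3,-4,-5,-5,-5,0,-3,2,5,6,-2,1,4,2]]

/-- The multiplier of `orbInv`. -/
def orbDen : ℤ := 1

end Cfsg.Agent.LeechIcosian
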