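import Cfsg.Agent.Lib.LeechIcosian.Data
import Cfsg.Agent.Lib.HallJanko.Lines
import Cfsg.Agent.Lib.Leech.Xi

/-! Computable definitions for the isometry and for the orbit bounds. -/

set_option autoImplicit false

namespace Cfsg.Agent.LeechIcosian

open Cfsg HJ HJ.V8

/-- The three generators over the ring. -/
def gen3 : ℕ → V3
  | 0 => ⟨smul (-1) vh, smul (-1) vh, zero⟩
  | 1 => ⟨zero, vh, vh⟩
  | _ => ⟨conj vh, conj vh, conj vh⟩

/-- The basis of the lattice over the integers. -/
def bV (k : Fin 24) : V3 := smulV (basis.getD ((k : ℕ) / 3) zero) (gen3 ((k : ℕ) % 3))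

/-- Entry of a table. -/
def entry (t : List (List ℤ)) (i k : ℕ) : ℤ := (t.getD i []).getD k 0

/-- The images of the basis. -/
def wV (k : Fin 24) : GolayPt → ℤ := fun p => entry wTab k (Mathieu.ptEnc p).val

/-- Dot product of two rows. -/
def wDot (j k : ℕ) : ℤ := ((List.range 24).map fun i => entry wTab j i * entry wTab k i).sum

/-- The symmetrised product. -/
def symV (a b : V3) : V8 := V8.add (ipV a b) (ipV b a)

/-- The rational form of the symmetrised product. -/
def T2 (a b : V3) : ℤ := (symV a b).a0 + (symV a b).b0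

/-- Coefficients of the rational form of `u · qip r X` as a functional of `u`. -/
def fVec (r X : V3) : V8 :=
  force (ipV r X) fun q => ⟨q.a0 + q.b0, q.a0 + 5 * q.b0, -(q.a1 + q.b1), -(q.a1 + 5 * q.b1),
    -(q.a2 + q.b2), -(q.a2 + 5 * q.b2), -(q.a3 + q.b3), -(q.a3 + 5 * q.b3)⟩

/-- Value of a functional. -/
def dot8 (u f : V8) : ℤ :=
  u.a0 * f.a0 + u.b0 * f.b0 + (u.a1 * f.a1 + u.b1 * f.b1) + (u.a2 * f.a2 + u.b2 * f.b2)
    + (u.a3 * f.a3 + u.b3 * f.b3)

/-- A base vector. -/
def baseV (j : ℕ) : V3 := smulV (unitsL.getD (baseIdx.getD j (0, 0)).1 zero) (rep (baseIdx.getD j (0, 0)).2)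

/-- The multiples of a vector by powers of the scalar. -/
def powV : ℕ → V3 → V3
  | 0, a => a
  | k + 1, a => smulV wU (powV k a)

/-- Base vector `a / 4` times power `a % 4` of the scalar. -/
def orbV (a : ℕ) : V3 := powV (a % 4) (baseV (a / 4))

/-- The constraints on the image of base vector `j`. -/
def consOf (j : ℕ) : List (V3 × ℤ) :=
  (List.range (4 * j)).map fun a => (orbV a, 2 * T2 (baseV j) (orbV a))

/-- The units that pass all constraints on one line. -/
def sieve (r : V3) : List (V3 × ℤ) → List V8 → List V8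
  | [], us => us
  | _ :: _, [] => []
  | (X, t) :: cs, u :: us =>
    force (fVec r X) fun f => sieve r cs ((u :: us).filter fun u => decide (dot8 u f = t))

/-- The number of candidates satisfying the given constraints. -/
def countCands (cs : List (V3 × ℤ)) : ℕ :=
  ((List.range 315).map fun i => (sieve (rep i) cs unitsL).length).sum

end Cfsg.Agent.LeechIcosian
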