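import Cfsg.Agent.Lib.LeechIcosian.Checks
import Cfsg.Agent.Lib.HallJanko.Lift
import Cfsg.Agent.Lib.Leech.Monomial
import Cfsg.Agent.Lib.Leech.Lattice

/-!
# The icosian Leech lattice is the Leech lattice

`Phi : icoLeech ≃ leechLattice` is additive and turns the rational form of the Hermitian product into
the dot product (`phi_gram`); `tr` carries isometries of the icosian lattice into `Co0`.
-/

set_option autoImplicit false

namespace Cfsg.Agent.LeechIcosian

open Quaternion Cfsg Cfsg.Spor HJ HJ.V8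

/-- Coordinates. -/
abbrev Co : Type := Fin 24 → ℤ

theorem coe_toR (A B : ℤ) : toH ⟨A, B, 0, 0, 0, 0, 0, 0⟩ = ((toR A B : ℝ) : ℍ[ℝ]) := by
  have h0 : toR 0 0 = 0 := by simp [toR]
  ext <;> simp only [toH_re, toH_imI, toH_imJ, toH_imK, h0, Quaternion.re_coe, Quaternion.imI_coe,
    Quaternion.imJ_coe, Quaternion.imK_coe]

theorem coe_toR_inj {A B A' B' : ℤ} (h : ((toR A B : ℝ) : ℍ[ℝ]) = ((toR A' B' : ℝ) : ℍ[ℝ])) :
    A = A' ∧ B = B' := toR_inj (Quaternion.coe_injective h)

theorem toR_add (A B A' B' : ℤ) : toR A B + toR A' B' = toR (A + A') (B + B') := by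
  simp [toR]; ring

theorem range_sum (f : ℕ → ℤ) : ((List.range 24).map f).sum = ∑ i : Fin 24, f i := by
  rw [Fin.sum_univ_eq_sum_range]; rfl

/-- The icosian lattice as an additive subgroup. -/
noncomputable def icoSub : AddSubgroup HV where
  carrier := icoLeech
  add_mem' := leech_add
  zero_mem' := leech_zero
  neg_mem' := fun {x} hx => by simpa using leech_smul (neg_mem (one_mem icosians)) hx

theorem gen3_spec {i : ℕ} (hi : i < 3) : InV (gen3 i) ∧ toV (gen3 i) ∈ icoLeech := by
  have h := List.all_eq_true.1 gen3_check i (List.mem_range.2 hi)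
  simp only [Bool.and_eq_true] at h
  obtain ⟨⟨⟨⟨⟨hx, hy⟩, hz⟩, h1⟩, h2⟩, h3⟩ := h
  refine ⟨⟨hx, hy, hz⟩, fun t => ?_, ?_, ?_, ?_⟩
  · fin_cases t <;> simp [toV, toH_mem, hx, hy, hz]
  · have := inIdeal_spec (q := vh) (by decide +kernel) (by rw [toH_vh]; exact star_mul_icoH)
      (inI_sub hx hy) h1
    simpa [toV, toH_sub, toH_vh] using this
  · have := inIdeal_spec (q := vh) (by decide +kernel) (by rw [toH_vh]; exact star_mul_icoH)
      (inI_sub hy hz) h2
    simpa [toV, toH_sub, toH_vh] using this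
  · have := inIdeal_spec (q := conj vh) (by decide +kernel)
      (by rw [toH_conj, toH_vh, star_star]; exact icoH_mul_star) (inI_add (inI_add hx hy) hz) h3
    simpa [toV, toH_add, toH_conj, toH_vh] using this

theorem inV_smulV {u : V8} {a : V3} (hu : inI u = true) (ha : InV a) : InV (smulV u a) := by
  simp only [InV, smulV, force_eq]
  exact ⟨(toH_mul hu ha.1).2, (toH_mul hu ha.2.1).2, (toH_mul hu ha.2.2).2⟩

theorem basis_getD {i : ℕ} (hi : i < 8) : inI (basis.getD i zero) = true := by
  refine List.all_eq_true.1 basis_check.1 _ ?_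
  rw [List.getD_eq_getElem _ _ (basis_check.2 ▸ hi)]
  exact List.getElem_mem _

theorem bV_spec (k : Fin 24) : InV (bV k) ∧ toV (bV k) ∈ icoLeech ∧
    toV (bV k) = toH (basis.getD ((k : ℕ) / 3) zero) • toV (gen3 ((k : ℕ) % 3)) := by
  have hb := basis_getD (i := (k : ℕ) / 3) (by omega)
  obtain ⟨hg, hg'⟩ := gen3_spec (i := (k : ℕ) % 3) (by omega)
  refine ⟨inV_smulV hb hg, ?_, toV_smulV hb hg⟩
  rw [bV, toV_smulV hb hg]
  exact leech_smul (toH_mem hb) hg'

/-- The map from coordinates to the icosian lattice. -/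
noncomputable def L : Co →+ HV where
  toFun c := ∑ k, c k • toV (bV k)
  map_zero' := by simp
  map_add' c d := by simp [add_smul, Finset.sum_add_distrib]

theorem L_single (k : Fin 24) : L (Pi.single k 1) = toV (bV k) := by
  show ∑ l, (Pi.single k 1 : Co) l • toV (bV l) = _
  simp [Pi.single_apply]

/-- The map from coordinates to the Leech lattice. -/
noncomputable def Wm : Co →+ (GolayPt → ℤ) where
  toFun c := ∑ k, c k • wV k
  map_zero' := by simp
  map_add' c d := by simp [add_smul, Finset.sum_add_distrib]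

theorem Wm_single (k : Fin 24) : Wm (Pi.single k 1) = wV k := by
  show ∑ l, (Pi.single k 1 : Co) l • wV l = _
  simp [Pi.single_apply]

theorem forall_of_single (H : AddSubgroup Co) (h : ∀ k, (Pi.single k 1 : Co) ∈ H) (c : Co) :
    c ∈ H := by
  have : c = ∑ k, c k • (Pi.single k 1 : Co) := by
    funext l; simp [Pi.single_apply]
  rw [this]
  exact sum_mem fun k _ => zsmul_mem (h k) _

theorem L_mem (c : Co) : L c ∈ icoLeech :=
  forall_of_single (icoSub.comap L) (fun k => show L _ ∈ icoLeech by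
    rw [L_single]; exact (bV_spec k).2.1) c

theorem wDot_eq (j k : Fin 24) : wDot j k = dotInt (wV j) (wV k) := by
  rw [dotInt, ← Equiv.sum_comp Mathieu.ptEnc.symm]
  simp only [wV, Equiv.apply_symm_apply, wDot]
  rw [range_sum]

theorem dotInt_add_left (x y z : GolayPt → ℤ) :
    dotInt (x + y) z = dotInt x z + dotInt y z := by
  simp [dotInt, add_mul, Finset.sum_add_distrib]

theorem dotInt_add_right (x y z : GolayPt → ℤ) :
    dotInt x (y + z) = dotInt x y + dotInt x z := by
  simp [dotInt, mul_add, Finset.sum_add_distrib]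

theorem dotInt_neg_left (x z : GolayPt → ℤ) : dotInt (-x) z = -dotInt x z := by
  simp [dotInt, neg_mul, Finset.sum_neg_distrib]

theorem dotInt_neg_right (x z : GolayPt → ℤ) : dotInt x (-z) = -dotInt x z := by
  simp [dotInt, mul_neg, Finset.sum_neg_distrib]

theorem qip_neg_left (x r : HV) : qip (-x) r = -qip x r := by
  simp [qip, neg_mul, Finset.sum_neg_distrib]

theorem qip_neg_right (x r : HV) : qip x (-r) = -qip x r := by
  simp [qip, mul_neg, Finset.sum_neg_distrib]

theorem qip_zero_left (r : HV) : qip 0 r = 0 := by simp [qip]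

theorem qip_zero_right (x : HV) : qip x 0 = 0 := by simp [qip]

/-- The comparison of the two forms. -/
def GramP (c d : Co) : Prop :=
  ∃ A B : ℤ, qip (L c) (L d) + qip (L d) (L c) = ((toR A B : ℝ) : ℍ[ℝ]) ∧
    dotInt (Wm c) (Wm d) = A + B

theorem toR_neg (A B : ℤ) : toR (-A) (-B) = -toR A B := by
  simp [toR]; ring

theorem coe_toR_zero : (0 : ℍ[ℝ]) = ((toR 0 0 : ℝ) : ℍ[ℝ]) := by simp [toR]

theorem gram (c d : Co) : GramP c d := by
  have hleft : ∀ d, (∀ k, GramP (Pi.single k 1) d) → ∀ c, GramP c d := fun d hd c =>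
    forall_of_single
      { carrier := {c | GramP c d}
        add_mem' := by
          rintro x y ⟨A, B, h1, h2⟩ ⟨A', B', h3, h4⟩
          refine ⟨A + A', B + B', ?_, ?_⟩
          · rw [map_add, qip_add_left, qip_add_right, ← toR_add, Quaternion.coe_add, ← h1, ← h3]
            abel
          · rw [map_add, dotInt_add_left, h2, h4]; ring
        zero_mem' := ⟨0, 0, by rw [map_zero, qip_zero_left, qip_zero_right, add_zero, coe_toR_zero],
          by simp [dotInt]⟩
        neg_mem' := by
          rintro x ⟨A, B, h1, h2⟩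
          refine ⟨-A, -B, ?_, ?_⟩
          · rw [map_neg, qip_neg_left, qip_neg_right, toR_neg, Quaternion.coe_neg, ← h1]; abel
          · rw [map_neg, dotInt_neg_left, h2]; ring } hd c
  refine hleft d (fun j => ?_) c
  refine forall_of_single
      { carrier := {d | GramP (Pi.single j 1) d}
        add_mem' := by
          rintro x y ⟨A, B, h1, h2⟩ ⟨A', B', h3, h4⟩
          refine ⟨A + A', B + B', ?_, ?_⟩
          · rw [map_add, qip_add_left, qip_add_right, ← toR_add, Quaternion.coe_add, ← h1, ← h3]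
            abel
          · rw [map_add, dotInt_add_right, h2, h4]; ring
        zero_mem' := ⟨0, 0, by rw [map_zero, qip_zero_left, qip_zero_right, add_zero, coe_toR_zero],
          by simp [dotInt]⟩
        neg_mem' := by
          rintro x ⟨A, B, h1, h2⟩
          refine ⟨-A, -B, ?_, ?_⟩
          · rw [map_neg, qip_neg_left, qip_neg_right, toR_neg, Quaternion.coe_neg, ← h1]; abel
          · rw [map_neg, dotInt_neg_right, h2]; ring } (fun k => ?_) d
  obtain ⟨a1, b1, a2, b2, a3, b3, hT⟩ := gram_check j k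
  have hs : symV (bV j) (bV k) = ⟨(symV (bV j) (bV k)).a0, (symV (bV j) (bV k)).b0, 0, 0, 0, 0, 0, 0⟩ := by
    revert a1 b1 a2 b2 a3 b3
    generalize symV (bV j) (bV k) = v
    intros
    cases v; simp_all
  refine ⟨(symV (bV j) (bV k)).a0, (symV (bV j) (bV k)).b0, ?_, ?_⟩
  · rw [L_single, L_single, (qip_toV (bV_spec j).1 (bV_spec k).1).1,
      (qip_toV (bV_spec k).1 (bV_spec j).1).1, ← toH_add, ← coe_toR, ← hs]
    rfl
  · rw [Wm_single, Wm_single, ← wDot_eq, ← hT]
    rfl

theorem Wm_inj {c : Co} (h : Wm c = 0) : c = 0 := by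
  funext k
  have e : ∀ j : Fin 24, ∑ p, wV j p * entry wInv (Mathieu.ptEnc p).val k =
      if j = k then wDen else 0 := fun j => by
    rw [← Equiv.sum_comp Mathieu.ptEnc.symm]
    simp only [wV, Equiv.apply_symm_apply]
    rw [← wInv_check j k, range_sum]
  have : ∑ p, Wm c p * entry wInv (Mathieu.ptEnc p).val k = c k * wDen := by
    show ∑ p, (∑ j, c j • wV j) p * _ = _
    simp only [Finset.sum_apply, Pi.smul_apply, smul_eq_mul, Finset.sum_mul, mul_assoc]
    rw [Finset.sum_comm]
    simp only [← Finset.mul_sum, e, mul_ite, mul_zero, Finset.sum_ite_eq', Finset.mem_univ, if_true]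
  simp only [h, Pi.zero_apply, zero_mul, Finset.sum_const_zero] at this
  exact (mul_eq_zero.1 this.symm).resolve_right (by decide)

theorem dotInt_self (x : GolayPt → ℤ) : dotInt x x = sqNorm x := by
  simp [dotInt, sqNorm, pow_two]

theorem L_inj {c : Co} (h : L c = 0) : c = 0 := by
  obtain ⟨A, B, h1, h2⟩ := gram c c
  rw [h, qip_zero_left, add_zero, coe_toR_zero] at h1
  obtain ⟨hA, hB⟩ := coe_toR_inj h1
  rw [← hA, ← hB, add_zero, dotInt_self, sqNorm,
    Finset.sum_eq_zero_iff_of_nonneg fun i _ => sq_nonneg _] at h2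
  exact Wm_inj (funext fun p => by simpa using h2 p (Finset.mem_univ p))

theorem L_surj {x : HV} (hx : x ∈ icoLeech) : ∃ c, L c = x := by
  obtain ⟨hI, ⟨a, ha, e1⟩, ⟨b, hb, e2⟩, ⟨c, hc, e3⟩⟩ := hx
  set r := c + a * icoH * icoH - x 0 * icoH with hr
  have hrI : r ∈ icosians := sub_mem (add_mem hc (mul_mem (mul_mem ha icoH_mem) icoH_mem))
    (mul_mem (hI 0) icoH_mem)
  have key : ∀ (q : ℍ[ℝ]) (i : ℕ), q ∈ icosians → i < 3 → q • toV (gen3 i) ∈ L.range := by
    intro q i hq hi
    have hq' : q ∈ spanI := by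
      obtain ⟨v, hv, rfl⟩ := mem_icosians.1 hq
      exact toH_mem_spanI hv
    induction hq' using AddSubgroup.closure_induction with
    | mem y hy =>
      obtain ⟨v, hv, rfl⟩ := hy
      obtain ⟨n, hn, rfl⟩ := List.getElem_of_mem hv
      rw [basis_check.2] at hn
      refine ⟨Pi.single ⟨3 * n + i, by omega⟩ 1, ?_⟩
      rw [L_single, (bV_spec _).2.2]
      simp only [show (3 * n + i) / 3 = n by omega, show (3 * n + i) % 3 = i by omega]
      rw [List.getD_eq_getElem _ _ (basis_check.2 ▸ hn)]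
    | zero => rw [zero_smul]; exact zero_mem _
    | add y z hy hz ihy ihz =>
      rw [add_smul]
      exact add_mem (ihy (by
        obtain ⟨v, hv, rfl⟩ := exists_of_mem_spanI hy; exact toH_mem hv)) (ihz (by
        obtain ⟨v, hv, rfl⟩ := exists_of_mem_spanI hz; exact toH_mem hv))
    | neg y hy ihy =>
      rw [neg_smul]
      exact neg_mem (ihy (by obtain ⟨v, hv, rfl⟩ := exists_of_mem_spanI hy; exact toH_mem hv))
  have hmem : (-b) • toV (gen3 0) + (-a) • toV (gen3 1) + r • toV (gen3 2) ∈ L.range :=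
    add_mem (add_mem (key _ 0 (neg_mem hb) (by norm_num)) (key _ 1 (neg_mem ha) (by norm_num)))
      (key _ 2 hrI (by norm_num))
  suffices (-b) • toV (gen3 0) + (-a) • toV (gen3 1) + r • toV (gen3 2) = x by
    rw [this] at hmem
    exact hmem
  have hh : ∀ z : ℍ[ℝ], z * icoH * star icoH = 2 * z := fun z => by
    rw [mul_assoc, icoH_mul_star, two_comm]
  have hx0 : x 0 = b * icoH + r * star icoH := by
    have h1 : x 1 = x 0 - a * icoH := by rw [← e1]; abel
    have h2 : x 2 = x 0 - a * icoH - b * icoH := by rw [← e2, ← e1]; abel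
    rw [hr, sub_mul, add_mul, hh, hh, ← e3, h1, h2, two_mul, two_mul]
    abel
  have hh' : toH (smul (-1) vh) = -icoH := by rw [toH_smul, toH_vh]; simp
  funext t
  have t1 : x 1 = x 0 - a * icoH := by rw [← e1]; abel
  have t2 : x 2 = x 1 - b * icoH := by rw [← e2]; abel
  fin_cases t <;>
    simp only [Fin.zero_eta, Fin.mk_one, Fin.reduceFinMk, Pi.add_apply, Pi.smul_apply, smul_eq_mul,
      toV, gen3, Matrix.cons_val_zero, Matrix.cons_val_one, Matrix.cons_val, hh', toH_zero, toH_vh,
      toH_conj, mul_zero, mul_neg, neg_mul, neg_neg, add_zero, zero_add]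
  · exact hx0.symm
  · rw [t1, hx0]; abel
  · rw [t2, t1, hx0]; abel

theorem Wm_mem (c : Co) : Wm c ∈ leechLattice :=
  forall_of_single (leechLattice.comap Wm) (fun k => show Wm _ ∈ leechLattice by
    rw [Wm_single, Leech.mem_leechLattice]
    refine Leech.inL_of_inLB ?_
    have := List.all_eq_true.1 lattice_check k (List.mem_range.2 k.2)
    simpa using this) c

theorem Wm_surj {y : GolayPt → ℤ} (hy : y ∈ leechLattice) : ∃ c, Wm c = y := by
  have hle : AddSubgroup.closure {g | g ∈ Leech.latGens} ≤ Wm.range := by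
    refine (AddSubgroup.closure_le _).2 fun g hg => ?_
    have h := congrArg (fun l : List (List ℤ) => l) latGens_check
    obtain ⟨l, -, e⟩ := List.mem_map.1 (h ▸ List.mem_map.2 ⟨g, hg, rfl⟩ :
      ((List.range 24).map fun i => g (Mathieu.idx Mathieu.ptEnc i)) ∈ latCoef.map fun c =>
        (List.range 24).map fun i => ((List.range 24).map fun j => c.getD j 0 * entry wTab j i).sum)
    refine ⟨fun j => l.getD j 0, funext fun p => ?_⟩
    have hp := List.map_inj_left.1 e (Mathieu.ptEnc p).val (List.mem_range.2 (Mathieu.ptEnc p).2)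
    rw [show Mathieu.idx Mathieu.ptEnc (Mathieu.ptEnc p).val = p by simp [Mathieu.idx]] at hp
    rw [← hp, range_sum]
    show (∑ j : Fin 24, l.getD j 0 • wV j) p = _
    simp [wV]
  exact hle (Leech.mem_closure_latGens (Leech.mem_leechLattice.1 hy))

theorem L_injective : Function.Injective L := (injective_iff_map_eq_zero L).2 fun _ => L_inj

/-- Coordinates of the icosian lattice. -/
noncomputable def EL : Co ≃ icoLeech :=
  Equiv.ofBijective (fun c => ⟨L c, L_mem c⟩)
    ⟨fun _ _ h => L_injective (congrArg Subtype.val h),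
      fun x => (L_surj x.2).imp fun _ e => Subtype.ext e⟩

theorem EL_val (c : Co) : ((EL c : icoLeech) : HV) = L c := rfl

/-- Coordinates of the Leech lattice. -/
noncomputable def EW : Co ≃ leechLattice :=
  Equiv.ofBijective (fun c => ⟨Wm c, Wm_mem c⟩)
    ⟨fun _ _ h => (injective_iff_map_eq_zero Wm).2 (fun _ => Wm_inj) (congrArg Subtype.val h),
      fun y => (Wm_surj y.2).imp fun _ e => Subtype.ext e⟩

theorem EW_val (c : Co) : ((EW c : leechLattice) : GolayPt → ℤ) = Wm c := rfl

/-- The isometry. -/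
noncomputable def Phi : icoLeech ≃ leechLattice := EL.symm.trans EW

theorem phi_EL (c : Co) : Phi (EL c) = EW c := by simp [Phi]

theorem phi_add {x y z : icoLeech} (h : (z : HV) = x + y) : Phi z = Phi x + Phi y := by
  obtain ⟨a, rfl⟩ := EL.surjective x
  obtain ⟨b, rfl⟩ := EL.surjective y
  obtain ⟨c, rfl⟩ := EL.surjective z
  simp only [EL_val, ← map_add] at h
  rw [L_injective h, phi_EL, phi_EL, phi_EL]
  exact Subtype.ext (by simp [EW_val])

theorem phi_gram (x y : icoLeech) :
    ∃ A B : ℤ, qip (x : HV) y + qip (y : HV) x = ((toR A B : ℝ) : ℍ[ℝ]) ∧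
      dotInt (Phi x : GolayPt → ℤ) (Phi y : GolayPt → ℤ) = A + B := by
  obtain ⟨a, rfl⟩ := EL.surjective x
  obtain ⟨b, rfl⟩ := EL.surjective y
  simp only [phi_EL, EL_val, EW_val]
  exact gram a b

/-- Additive permutations preserving the Hermitian norm. -/
noncomputable def isoGrp : Subgroup (Equiv.Perm icoLeech) where
  carrier := {f | (∀ x y z : icoLeech, (z : HV) = x + y → (f z : HV) = f x + f y) ∧
    ∀ x : icoLeech, qip (f x : HV) (f x) = qip (x : HV) x}
  one_mem' := ⟨fun _ _ _ h => h, fun _ => rfl⟩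
  mul_mem' := fun {f g} hf hg =>
    ⟨fun x y z h => hf.1 _ _ _ (hg.1 x y z h), fun x => (hf.2 _).trans (hg.2 x)⟩
  inv_mem' := fun {f} hf => by
    refine ⟨fun x y z h => ?_, fun x => ?_⟩
    · let w : icoLeech := ⟨(f⁻¹ x : HV) + f⁻¹ y, leech_add (f⁻¹ x).2 (f⁻¹ y).2⟩
      have hw := hf.1 (f⁻¹ x) (f⁻¹ y) w rfl
      rw [perm_self_inv, perm_self_inv, ← h] at hw
      have : w = f⁻¹ z := by rw [← Subtype.ext hw, perm_inv_self]
      rw [← this]
    · have := hf.2 (f⁻¹ x)
      rw [perm_self_inv] at this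
      exact this.symm

theorem sqNorm_phi_congr {x y : icoLeech} (h : qip (x : HV) x = qip (y : HV) y) :
    sqNorm (Phi x : GolayPt → ℤ) = sqNorm (Phi y : GolayPt → ℤ) := by
  obtain ⟨A, B, h1, h2⟩ := phi_gram x x
  obtain ⟨A', B', h3, h4⟩ := phi_gram y y
  rw [h, h3] at h1
  obtain ⟨hA, hB⟩ := coe_toR_inj h1
  rw [← dotInt_self, ← dotInt_self, h2, h4, hA, hB]

theorem conj_mem_co0 {f : Equiv.Perm icoLeech} (hf : f ∈ isoGrp) : Phi.permCongr f ∈ Co0 := by
  refine ⟨fun v w => ?_, fun v => ?_⟩
  · simp only [Equiv.permCongr_apply]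
    obtain ⟨x, rfl⟩ := Phi.surjective v
    obtain ⟨y, rfl⟩ := Phi.surjective w
    rw [← phi_add (z := ⟨(x : HV) + y, leech_add x.2 y.2⟩) rfl, Equiv.symm_apply_apply,
      Equiv.symm_apply_apply, Equiv.symm_apply_apply]
    exact phi_add (hf.1 x y _ rfl)
  · simp only [Equiv.permCongr_apply]
    obtain ⟨x, rfl⟩ := Phi.surjective v
    rw [Equiv.symm_apply_apply]
    exact sqNorm_phi_congr (hf.2 x)

/-- Isometries of the icosian lattice as automorphisms of the Leech lattice. -/
noncomputable def tr : isoGrp →* Co0 :=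
  ((Equiv.permCongrHom Phi).toMonoidHom.comp isoGrp.subtype).codRestrict Co0 fun f => conj_mem_co0 f.2

theorem tr_injective : Function.Injective tr := fun a b h =>
  Subtype.ext ((Equiv.permCongrHom Phi).injective (congrArg Subtype.val h))

theorem tr_phi (f : isoGrp) (x : icoLeech) : tr f • Phi x = Phi (f.1 x) := by
  show Phi.permCongr f.1 (Phi x) = _
  rw [Equiv.permCongr_apply, Equiv.symm_apply_apply]

end Cfsg.Agent.LeechIcosian
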