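import Cfsg.Agent.Lib.LeechIcosian.Model
import Cfsg.Agent.Lib.HallJanko.Group

/-!
# The scalar of order five

`aElt` is the image in `Co0` of multiplication by a unit of order five; it commutes with the images
`jHom g` of the reflection group; two dot products recognise the vectors of Hermitian norm four.
-/

set_option autoImplicit false

namespace Cfsg.Agent.LeechIcosian

open Quaternion Cfsg Cfsg.Spor HJ HJ.V8

/-- The scalar. -/
noncomputable def wH : ℍ[ℝ] := toH wU

theorem wH_mem : wH ∈ icosians := toH_mem wU_check.1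

theorem normSq_wH : normSq wH = 1 := by
  rw [wH, normSq_toH wU_check.1, wU_check.2.1]
  simp [toR]

theorem wH_pow : wH * (wH * (wH * (wH * wH))) = 1 := by
  obtain ⟨hI, -, -, h5, -⟩ := wU_check
  have e2 := toH_mul hI hI
  have e3 := toH_mul hI e2.2
  have e4 := toH_mul hI e3.2
  have e5 := toH_mul hI e4.2
  rw [wH, ← e2.1, ← e3.1, ← e4.1, ← e5.1, h5, toH_one]

theorem qip_self_real (x : HV) : ∃ r : ℝ, qip x x = (r : ℍ[ℝ]) :=
  ⟨normSq (x 0) + normSq (x 1) + normSq (x 2), by
    simp [qip, Fin.sum_univ_three, Quaternion.self_mul_star]⟩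

/-- Multiplication by the scalar. -/
noncomputable def wPerm : Equiv.Perm icoLeech where
  toFun x := ⟨wH • (x : HV), leech_smul wH_mem x.2⟩
  invFun x := ⟨star wH • (x : HV), leech_smul (star_mem_icosians wH_mem) x.2⟩
  left_inv x := Subtype.ext (by
    show star wH • (wH • (x : HV)) = x
    rw [smul_smul, Quaternion.star_mul_self, normSq_wH, Quaternion.coe_one, one_smul])
  right_inv x := Subtype.ext (by
    show wH • (star wH • (x : HV)) = x
    rw [smul_smul, Quaternion.self_mul_star, normSq_wH, Quaternion.coe_one, one_smul])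

theorem wPerm_apply (x : icoLeech) : ((wPerm x : icoLeech) : HV) = wH • (x : HV) := rfl

theorem wPerm_mem : wPerm ∈ isoGrp := by
  refine ⟨fun x y z h => by simp only [wPerm_apply, h, smul_add], fun x => ?_⟩
  obtain ⟨r, hr⟩ := qip_self_real (x : HV)
  rw [wPerm_apply, qip_smul_left, qip_smul_right, hr, Quaternion.coe_commutes, ← mul_assoc,
    Quaternion.self_mul_star, normSq_wH, Quaternion.coe_one, one_mul]

/-- The scalar as an element of `Co0`. -/
noncomputable def aElt : Co0 := tr ⟨wPerm, wPerm_mem⟩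

theorem aElt_phi (x : icoLeech) : aElt • Phi x = Phi (wPerm x) := tr_phi _ x

theorem wPerm_pow_five : (wPerm ^ 5 : Equiv.Perm icoLeech) = 1 := by
  refine Equiv.ext fun x => Subtype.ext ?_
  show wH • (wH • (wH • (wH • (wH • (x : HV))))) = x
  rw [smul_smul, smul_smul, smul_smul, smul_smul]
  simp only [mul_assoc, wH_pow, one_smul]

theorem wPerm_ne_one : wPerm ≠ 1 := by
  intro h
  have e : wH • (lv 0 : HV) = lv 0 := congrArg Subtype.val (Equiv.ext_iff.1 h (lv 0))
  have h0 := congrFun e 0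
  rw [show (lv 0 : HV) = _ from rv_two 0] at h0
  simp only [Pi.smul_apply, Pi.single_eq_same, smul_eq_mul] at h0
  rw [two_comm, two_mul] at h0
  have h1 : (2 : ℝ) • wH = (2 : ℝ) • (1 : ℍ[ℝ]) := by
    rw [two_smul, two_smul, h0]; norm_num
  exact wU_check.2.2.1 (toH_injective
    ((smul_right_injective _ (two_ne_zero : (2 : ℝ) ≠ 0) h1).trans toH_one.symm))

theorem orderOf_aElt : orderOf aElt = 5 := by
  rw [aElt, orderOf_injective tr tr_injective, ← Subgroup.orderOf_coe]
  haveI : Fact (Nat.Prime 5) := ⟨by norm_num⟩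
  exact orderOf_eq_prime wPerm_pow_five wPerm_ne_one

theorem linIso_le_isoGrp : linIso ≤ isoGrp := fun f hf =>
  ⟨fun x y z h => by rw [hf.1 x y z 1 (one_mem _) (by rw [one_smul]; exact h), one_smul],
    fun x => hf.2 x x⟩

/-- The reflection group inside `Co0`. -/
noncomputable def jHom : twoJ2 →* Co0 :=
  tr.comp (Subgroup.inclusion (twoJ2_le_linIso.trans linIso_le_isoGrp))

theorem jHom_injective : Function.Injective jHom :=
  tr_injective.comp (Subgroup.inclusion_injective _)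

theorem jHom_comm (g : twoJ2) : jHom g * aElt = aElt * jHom g := by
  rw [jHom, aElt, MonoidHom.comp_apply, ← map_mul, ← map_mul]
  refine congrArg tr (Subtype.ext (Equiv.ext fun x => Subtype.ext ?_))
  show ((g : Equiv.Perm icoLeech) (wPerm x) : HV) = wH • ((g : Equiv.Perm icoLeech) x : HV)
  exact map_smul_of_linIso (twoJ2_le_linIso g.2) wH_mem (wPerm_apply x)

theorem dots (x : icoLeech) : ∃ n0 n1 : ℤ, qip (x : HV) x = ((toR n0 n1 : ℝ) : ℍ[ℝ]) ∧
    dotInt (Phi x : GolayPt → ℤ) (Phi x : GolayPt → ℤ) = 2 * (n0 + n1) ∧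
    dotInt (Phi x : GolayPt → ℤ) (Phi (wPerm x) : GolayPt → ℤ) = -n0 - 3 * n1 := by
  obtain ⟨v, -, hv⟩ := mem_icosians.1 (qip_mem x.2 x.2)
  obtain ⟨r, hr⟩ := qip_self_real (x : HV)
  have hr' : r = toR v.a0 v.b0 := by
    have := congrArg (fun q : ℍ[ℝ] => q.re) (hr.symm.trans hv.symm)
    simpa using this
  subst hr'
  refine ⟨v.a0, v.b0, hr, ?_, ?_⟩
  · obtain ⟨A, B, h1, h2⟩ := phi_gram x x
    rw [hr, ← Quaternion.coe_add, toR_add] at h1
    obtain ⟨hA, hB⟩ := coe_toR_inj h1
    rw [h2, ← hA, ← hB]; ring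
  · obtain ⟨A, B, h1, h2⟩ := phi_gram x (wPerm x)
    rw [wPerm_apply, qip_smul_right, qip_smul_left, hr, Quaternion.coe_commutes, ← add_mul,
      Quaternion.star_add_self', ← Quaternion.coe_mul] at h1
    have h3 := Quaternion.coe_injective h1
    obtain ⟨-, -, -, -, ha, hb⟩ := wU_check
    rw [wH, toH_re, ha, hb] at h3
    have h4 : toR (-2 * v.a0 - 10 * v.b0) (-2 * v.a0 - 2 * v.b0) = toR (4 * A) (4 * B) := by
      have : toR (4 * A) (4 * B) = 4 * toR A B := by simp [toR]; ring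
      rw [this, ← h3]
      simp [toR]; ring_nf; simp only [sqrt5_sq]; ring
    obtain ⟨hA, hB⟩ := toR_inj h4
    rw [h2]
    omega

theorem four_toR : (4 : ℍ[ℝ]) = ((toR 16 0 : ℝ) : ℍ[ℝ]) := by
  rw [four_real, show toR 16 0 = 4 by simp [toR]; norm_num]

theorem dots_good {x : icoLeech} (h : Good (x : HV)) :
    dotInt (Phi x : GolayPt → ℤ) (Phi x : GolayPt → ℤ) = 32 ∧
      dotInt (Phi x : GolayPt → ℤ) (Phi (wPerm x) : GolayPt → ℤ) = -16 := by
  obtain ⟨n0, n1, e, h1, h2⟩ := dots x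
  rw [h.2, four_toR] at e
  obtain ⟨rfl, rfl⟩ := coe_toR_inj e.symm
  omega

theorem good_of_dots {x : icoLeech} (h : dotInt (Phi x : GolayPt → ℤ) (Phi x : GolayPt → ℤ) = 32)
    (h' : dotInt (Phi x : GolayPt → ℤ) (Phi (wPerm x) : GolayPt → ℤ) = -16) : Good (x : HV) := by
  obtain ⟨n0, n1, e, h1, h2⟩ := dots x
  obtain ⟨rfl, rfl⟩ : n0 = 16 ∧ n1 = 0 := by omega
  exact ⟨x.2, e.trans four_toR.symm⟩

end Cfsg.Agent.LeechIcosian
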