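import Cfsg.Agent.Lib.LeechIcosian.Bound
import Cfsg.Agent.Lib.HallJanko.Simple

/-!
# `J₂` as a section of `Co0`

`quotIso`: the centraliser of the scalar of order five modulo it and the centre is `J₂`.
-/

set_option autoImplicit false

namespace Cfsg.Agent.LeechIcosian

open Quaternion Cfsg Cfsg.Spor HJ MulAction

theorem phi_negT (x : icoLeech) :
    Phi ((negT : Equiv.Perm icoLeech) x) = -Phi x := by
  have h0 : Phi ⟨0, leech_zero⟩ = 0 := by
    have := phi_add (x := ⟨0, leech_zero⟩) (y := ⟨0, leech_zero⟩) (z := ⟨0, leech_zero⟩) (add_zero 0).symm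
    simpa using this
  have h := phi_add (x := x) (y := (negT : Equiv.Perm icoLeech) x) (z := ⟨0, leech_zero⟩)
    (by rw [negT_apply, add_neg_cancel])
  rw [h0] at h
  exact eq_neg_of_add_eq_zero_right h.symm

theorem jHom_negT_center : jHom negT ∈ Subgroup.center Co0 := by
  refine Subgroup.mem_center_iff.2 fun g => eq_of_smul_eq_smul (α := leechLattice) fun v => ?_
  have key : ∀ w : leechLattice, jHom negT • w = -w := fun w => by
    obtain ⟨x, rfl⟩ := Phi.surjective w
    rw [← phi_negT]
    exact tr_phi _ x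
  rw [mul_smul, mul_smul, key, key, Leech.co0_neg]

/-- The scalars times the centre, inside the centraliser. -/
noncomputable def scalCenter : Subgroup Co0 := Subgroup.zpowers aElt ⊔ Subgroup.center Co0

theorem scalCenter_comm {m c : Co0} (hm : m ∈ scalCenter) (hc : c ∈ cenA) : c * m = m * c := by
  have hle : scalCenter ≤ Subgroup.centralizer {c} := by
    refine sup_le ?_ (Subgroup.center_le_centralizer _)
    rw [Subgroup.zpowers_le, Subgroup.mem_centralizer_singleton_iff]
    exact (mem_cenA.1 hc).symm
  exact (Subgroup.mem_centralizer_singleton_iff.1 (hle hm)).symm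

theorem scalCenter_normal : (scalCenter.subgroupOf cenA).Normal := ⟨fun m hm c => by
  rw [Subgroup.mem_subgroupOf] at hm ⊢
  simp only [Subgroup.coe_mul, Subgroup.coe_inv]
  rwa [scalCenter_comm hm c.2, mul_inv_cancel_right]⟩

theorem jHom_center_mem {h : twoJ2} (hh : h ∈ Subgroup.center twoJ2) : jHom h ∈ scalCenter := by
  rcases center_cases hh with rfl | rfl
  · rw [map_one]; exact one_mem _
  · exact Subgroup.mem_sup_right jHom_negT_center

theorem quotIso (hn : (scalCenter.subgroupOf cenA).Normal) :
    Nonempty (J2 ≃* cenA ⧸ scalCenter.subgroupOf cenA) := by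
  let π : twoJ2 →* cenA ⧸ scalCenter.subgroupOf cenA :=
    (QuotientGroup.mk' _).comp (jHom.codRestrict cenA jHom_mem)
  have hsurj : Function.Surjective π := by
    intro q
    obtain ⟨⟨g, hg⟩, rfl⟩ := QuotientGroup.mk'_surjective _ q
    obtain ⟨k, h, rfl⟩ := exists_decomp hg
    refine ⟨h, (QuotientGroup.eq).2 ?_⟩
    rw [Subgroup.mem_subgroupOf]
    show (jHom h)⁻¹ * (aElt ^ k * jHom h) ∈ scalCenter
    have : Commute (jHom h) (aElt ^ k) := Commute.pow_right (jHom_comm h) k
    rw [← this.eq, inv_mul_cancel_left]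
    exact pow_mem (Subgroup.mem_sup_left (Subgroup.mem_zpowers _)) _
  have hker : π.ker = Subgroup.center twoJ2 := by
    ext h
    rw [MonoidHom.mem_ker, MonoidHom.comp_apply, QuotientGroup.mk'_apply, QuotientGroup.eq_one_iff,
      Subgroup.mem_subgroupOf]
    show jHom h ∈ scalCenter ↔ _
    refine ⟨fun hm => Subgroup.mem_center_iff.2 fun y => jHom_injective ?_, jHom_center_mem⟩
    rw [map_mul, map_mul]
    exact scalCenter_comm hm (jHom_mem y)
  exact ⟨(QuotientGroup.quotientMulEquivOfEq hker.symm).trans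
    (QuotientGroup.quotientKerEquivOfSurjective π hsurj)⟩

end Cfsg.Agent.LeechIcosian
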